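import Cfsg.Agent.BpExc.TorCent
import Cfsg.Agent.ChevalleyStructure.AbstractBN
import Cfsg.Agent.S0319
import Cfsg.Agent.S0313
import Cfsg.Prelude.Def_EvenType

-- merged: Cfsg.Agent.BpExc.Zc
section

/-!
# Integrally closed sets of roots (S1332-EXC (h), helper58)

* `ZB x y z` : `z` is a root and `z = a x + b y` with positive integers `a`, `b`;
* `CommZ` : `[X x, X y] ≤ ⟨X z : ZB x y z⟩` (true for the Chevalley groups; the axiom `RGD.comm` has rational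
  combinations);
* `ZClosed`, `splitZ` : `Sup S = Sup {f > 0} · Sup {f ≤ 0}` for integrally closed `S` in an open half space.
-/

set_option autoImplicit false
set_option linter.unusedSectionVars false

namespace Cfsg.Agent.BpExc.Zc

open CoxeterSystem Cfsg.Agent.ChevalleyStructure.CoxeterGeom Cfsg.Agent.Tits.Roots Cfsg.Agent.Tits.Core
  Cfsg.Agent.Tits.Exchange Cfsg.Agent.Nodes.Reps Cfsg.Agent.Nodes.BNOf Cfsg.Agent.Nodes.StabComb
  Cfsg.Agent.Nodes.Comb Cfsg.Agent.Nodes.Bruhat Cfsg.Agent.Nodes.Slope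
open scoped commutatorElement

variable {I W Y : Type*} [Fintype I] [DecidableEq I] [Group W] [Group Y] {M : CoxeterMatrix I}
  {cs : CoxeterSystem M W} {A : I → I → ℤ} {h : IsCartan M A} {p : ℕ} {T : Subgroup Y} {n : I → Y}
  {X : (I → ℤ) → Subgroup Y}

/-- `z` is a root and a positive integral combination of `x` and `y`. -/
def ZB (cs : CoxeterSystem M W) (h : IsCartan M A) (x y z : I → ℤ) : Prop :=
  IsRoot cs h z ∧ ∃ a b : ℤ, 0 < a ∧ 0 < b ∧ z = a • x + b • y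

/-- The integral commutator relations. -/
def CommZ (cs : CoxeterSystem M W) (h : IsCartan M A) (X : (I → ℤ) → Subgroup Y) : Prop :=
  ∀ x y, IsRoot cs h x → IsRoot cs h y → x ≠ y → x ≠ -y → ∀ a ∈ X x, ∀ b ∈ X y,
    ⁅a, b⁆ ∈ RGD.Sup X {z | ZB cs h x y z}

/-- Integrally closed sets of roots. -/
structure ZClosed (cs : CoxeterSystem M W) (h : IsCartan M A) (S : Set (I → ℤ)) : Prop where
  root : ∀ x ∈ S, IsRoot cs h x
  btw : ∀ x ∈ S, ∀ y ∈ S, ∀ z, ZB cs h x y z → z ∈ S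

theorem ZB.btwn {x y z : I → ℤ} (hz : ZB cs h x y z) : Btwn cs h x y z := by
  obtain ⟨h1, a, b, ha, hb, he⟩ := hz
  exact Btwn.of_int h1 ha hb he

theorem ZB.symm {x y z : I → ℤ} (hz : ZB cs h x y z) : ZB cs h y x z := by
  obtain ⟨h1, a, b, ha, hb, he⟩ := hz
  exact ⟨h1, b, a, hb, ha, by rw [he, add_comm]⟩

theorem ZB.map {x y z : I → ℤ} (hz : ZB cs h x y z) (f : (I → ℤ) →+ ℤ) :
    ∃ a b : ℤ, 0 < a ∧ 0 < b ∧ f z = a * f x + b * f y := by
  obtain ⟨-, a, b, ha, hb, he⟩ := hz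
  refine ⟨a, b, ha, hb, ?_⟩
  rw [he, map_add, map_zsmul, map_zsmul, smul_eq_mul, smul_eq_mul]

theorem ZB.pos {x y z : I → ℤ} (hz : ZB cs h x y z) (f : (I → ℤ) →+ ℤ) (hx : 0 < f x) (hy : 0 ≤ f y) : 0 < f z :=
  btwn_pos' hz.btwn f hx hy

theorem ZB.nonneg {x y z : I → ℤ} (hz : ZB cs h x y z) (f : (I → ℤ) →+ ℤ) (hx : 0 ≤ f x) (hy : 0 ≤ f y) :
    0 ≤ f z := btwn_nonneg' hz.btwn f hx hy

theorem ZB.nonpos {x y z : I → ℤ} (hz : ZB cs h x y z) (f : (I → ℤ) →+ ℤ) (hx : f x ≤ 0) (hy : f y ≤ 0) :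
    f z ≤ 0 := btwn_nonpos' hz.btwn f hx hy

theorem ZB.nonneg' {x y z : I → ℤ} (hz : ZB cs h x y z) (hx : 0 ≤ x) (hy : 0 ≤ y) : 0 ≤ z :=
  btwn_nonneg hz.btwn hx hy

namespace ZClosed

theorem pos {S : Set (I → ℤ)} (hS : ZClosed cs h S) (f : (I → ℤ) →+ ℤ) :
    ZClosed cs h {x | x ∈ S ∧ 0 < f x} :=
  ⟨fun x hx => hS.root x hx.1, fun x hx y hy z hz => ⟨hS.btw x hx.1 y hy.1 z hz, hz.pos f hx.2 hy.2.le⟩⟩

theorem nonpos {S : Set (I → ℤ)} (hS : ZClosed cs h S) (f : (I → ℤ) →+ ℤ) :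
    ZClosed cs h {x | x ∈ S ∧ f x ≤ 0} :=
  ⟨fun x hx => hS.root x hx.1, fun x hx y hy z hz => ⟨hS.btw x hx.1 y hy.1 z hz, hz.nonpos f hx.2 hy.2⟩⟩

theorem zero {S : Set (I → ℤ)} (hS : ZClosed cs h S) (f : (I → ℤ) →+ ℤ) :
    ZClosed cs h {x | x ∈ S ∧ f x = 0} :=
  ⟨fun x hx => hS.root x hx.1, fun x hx y hy z hz => ⟨hS.btw x hx.1 y hy.1 z hz,
    le_antisymm (hz.nonpos f hx.2.le hy.2.le) (hz.nonneg f hx.2.ge hy.2.ge)⟩⟩

theorem nn {S : Set (I → ℤ)} (hS : ZClosed cs h S) : ZClosed cs h {x | x ∈ S ∧ 0 ≤ x} :=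
  ⟨fun x hx => hS.root x hx.1, fun x hx y hy z hz => ⟨hS.btw x hx.1 y hy.1 z hz, hz.nonneg' hx.2 hy.2⟩⟩

theorem finite [Finite W] {S : Set (I → ℤ)} (hS : ZClosed cs h S) : S.Finite :=
  (RGD.finite_roots (cs := cs) (h := h)).subset fun _ hx => hS.root _ hx

end ZClosed

section Split

variable (R : RGD cs h p T n X) (hZ : CommZ cs h X)

include R hZ

/-- `X x` normalises `Sup X S` when `S` absorbs the integral intervals. -/
theorem le_normalizerZ {x : I → ℤ} {S : Set (I → ℤ)} (hx : IsRoot cs h x)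
    (hS : ∀ y ∈ S, IsRoot cs h y ∧ (x = y ∨ (x ≠ -y ∧ ∀ z, ZB cs h x y z → z ∈ S))) :
    X x ≤ Subgroup.normalizer (RGD.Sup X S : Set Y) := by
  have key : ∀ a ∈ X x, cj a (RGD.Sup X S) ≤ RGD.Sup X S := by
    intro a ha
    rw [RGD.cj_Sup]
    refine iSup_le ?_
    rintro ⟨y, hy⟩
    obtain ⟨hyr, hxy | ⟨hxy', hz⟩⟩ := hS y hy
    · subst hxy
      rw [cj_eq_of_mem ha]
      exact RGD.le_Sup hy
    · by_cases hxy : x = y
      · subst hxy
        rw [cj_eq_of_mem ha]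
        exact RGD.le_Sup hy
      intro b hb
      rw [mem_cj] at hb
      have h1 := hZ x y hx hyr hxy hxy' a ha _ hb
      have h2 : b = ⁅a, a⁻¹ * b * a⁆ * (a⁻¹ * b * a) := by
        rw [commutatorElement_def]; group
      rw [h2]
      exact mul_mem (RGD.Sup_mono (S := {z | ZB cs h x y z}) (S' := S) hz h1) (RGD.le_Sup hy hb)
  intro a ha
  rw [mem_normalizer_iff_cj]
  apply le_antisymm (key a ha)
  have h1 := key a⁻¹ (inv_mem ha)
  have h2 := cj_mono a h1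
  rwa [cj_cj_inv] at h2

/-- **Splitting of a unipotent group by the sign of a functional**, integral version. -/
theorem splitZ [Finite W] {S : Set (I → ℤ)} (hS : ZClosed cs h S) (lam ell : (I → ℤ) →+ ℤ)
    (hl : ∀ x ∈ S, 0 < lam x) {u : Y} (hu : u ∈ RGD.Sup X S) :
    ∃ a ∈ RGD.Sup X {x | x ∈ S ∧ 0 < ell x}, ∃ c ∈ RGD.Sup X {x | x ∈ S ∧ ell x ≤ 0}, u = a * c := by
  obtain ⟨mu, hmu⟩ := exists_sep (cs := cs) (h := h) hS.root lam hl
  have hfin := hS.finite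
  have key : ∀ k : ℕ, ∀ S' : Set (I → ℤ), S' ⊆ S → ZClosed cs h S' → S'.ncard = k → ∀ u ∈ RGD.Sup X S',
      ∃ a ∈ RGD.Sup X {x | x ∈ S' ∧ 0 < ell x}, ∃ c ∈ RGD.Sup X {x | x ∈ S' ∧ ell x ≤ 0}, u = a * c := by
    intro k
    induction k with
    | zero =>
      intro S' hsub hS' hk u hu
      rw [Set.ncard_eq_zero (hfin.subset hsub)] at hk
      subst hk
      refine ⟨1, one_mem _, u, ?_, by rw [one_mul]⟩
      have : ({x | x ∈ (∅ : Set (I → ℤ)) ∧ ell x ≤ 0} : Set (I → ℤ)) = ∅ := by ext x; simp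
      rw [this]; exact hu
    | succ k ih =>
      intro S' hsub hS' hk u hu
      have hfin' := hfin.subset hsub
      have hne : S'.Nonempty := by
        rw [Set.nonempty_iff_ne_empty]
        rintro rfl
        rw [Set.ncard_empty] at hk
        exact absurd hk (by omega)
      obtain ⟨r, hr, hmax⟩ := exists_extreme hfin' hne lam ell mu (fun x hx => hl x (hsub hx))
      by_cases h0 : ell r ≤ 0
      · -- no root with positive value
        refine ⟨1, one_mem _, u, ?_, by rw [one_mul]⟩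
        refine RGD.Sup_mono (S := S') (S' := {x | x ∈ S' ∧ ell x ≤ 0}) (fun x hx => ⟨hx, ?_⟩) hu
        have hlx := hl x (hsub hx)
        have hlr := hl r (hsub hr)
        by_contra hx0
        push Not at hx0
        have h1 : 0 < ell x * lam r := mul_pos hx0 hlr
        have h2 : ell r * lam x ≤ 0 := mul_nonpos_of_nonpos_of_nonneg h0 hlx.le
        rcases hmax x hx with h3 | ⟨h3, -⟩ <;> linarith
      · push Not at h0
        have hne' : ∀ x ∈ S', ∀ y ∈ S', ZB cs h x y r → x = r ∧ y = r := by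
          intro x hx y hy hz
          obtain ⟨h1, h2⟩ := extreme_ne hz.btwn (hmax x hx) (hmax y hy)
          exact ⟨hmu x (hsub hx) r (hsub hr) h1, hmu y (hsub hy) r (hsub hr) h2⟩
        have hcl : ZClosed cs h (S' \ {r}) := by
          refine ⟨fun x hx => hS'.root x hx.1, fun x hx y hy z hz => ⟨hS'.btw x hx.1 y hy.1 z hz, ?_⟩⟩
          rintro rfl
          exact hx.2 (hne' x hx.1 y hy.1 hz).1
        have hcard : (S' \ {r}).ncard = k := by
          have := Set.ncard_sdiff_singleton_add_one hr hfin'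
          omega
        have hnorm : X r ≤ Subgroup.normalizer (RGD.Sup X (S' \ {r}) : Set Y) := by
          refine le_normalizerZ R hZ (hS'.root r hr) ?_
          rintro y ⟨hy, hyr⟩
          refine ⟨hS'.root y hy, Or.inr ⟨?_, fun z hz => ⟨hS'.btw r hr y hy z hz, ?_⟩⟩⟩
          · intro he
            have h1 := hl r (hsub hr)
            have h2 := hl y (hsub hy)
            rw [he, map_neg] at h1
            linarith
          · rintro rfl
            exact hyr (hne' _ hr y hy hz).2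
        have hsup : RGD.Sup X S' = X r ⊔ RGD.Sup X (S' \ {r}) := by
          apply le_antisymm
          · refine RGD.Sup_le fun z hz => ?_
            by_cases hz0 : z = r
            · subst hz0; exact le_sup_left
            · exact le_trans (RGD.le_Sup (S := S' \ {r}) ⟨hz, hz0⟩) le_sup_right
          · exact sup_le (RGD.le_Sup hr) (RGD.Sup_mono Set.sdiff_subset)
        have h1 : u ∈ ((X r ⊔ RGD.Sup X (S' \ {r}) : Subgroup Y) : Set Y) := by
          rw [← hsup]; exact hu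
        rw [Subgroup.coe_mul_of_left_le_normalizer_right _ _ hnorm, Set.mem_mul] at h1
        obtain ⟨v, hv, u', hu', rfl⟩ := h1
        obtain ⟨a, ha, c, hc, rfl⟩ := ih (S' \ {r}) (fun x hx => hsub hx.1) hcl hcard u' hu'
        refine ⟨v * a, mul_mem (RGD.le_Sup (S := {x | x ∈ S' ∧ 0 < ell x}) ⟨hr, h0⟩ hv)
          (RGD.Sup_mono (S := {x | x ∈ S' \ {r} ∧ 0 < ell x}) (S' := {x | x ∈ S' ∧ 0 < ell x})
            (fun x hx => ⟨hx.1.1, hx.2⟩) ha), c,
          RGD.Sup_mono (S := {x | x ∈ S' \ {r} ∧ ell x ≤ 0}) (S' := {x | x ∈ S' ∧ ell x ≤ 0})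
            (fun x hx => ⟨hx.1.1, hx.2⟩) hc, ?_⟩
        rw [mul_assoc]
  exact key _ S subset_rfl hS rfl u hu

end Split

/-! ### exposed sets -/

/-- The functionals invariant under `ρ`. -/
def Iv (ρ : (I → ℤ) →+ (I → ℤ)) : AddSubgroup ((I → ℤ) →+ ℤ) where
  carrier := {f | ∀ x, f (ρ x) = f x}
  zero_mem' := fun _ => rfl
  add_mem' := by
    intro f g hf hg x
    rw [AddMonoidHom.add_apply, AddMonoidHom.add_apply, hf, hg]
  neg_mem' := by
    intro f hf x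
    rw [AddMonoidHom.neg_apply, AddMonoidHom.neg_apply, hf]

omit [Fintype I] [DecidableEq I] in
theorem mem_Iv {ρ : (I → ℤ) →+ (I → ℤ)} {f : (I → ℤ) →+ ℤ} : f ∈ Iv ρ ↔ ∀ x, f (ρ x) = f x := Iff.rfl

omit [DecidableEq I] in
/-- **The segment argument.** `P` finite, `lam0 > 0` on `P`, `mu` negative somewhere on `P`, both `ρ`-invariant: there is a
`ρ`-invariant `f ≥ 0` on `P` whose zeros in `P` are nonempty, pairwise `ρ`-parallel, and have `mu < 0`. -/
theorem exists_expose {ρ : (I → ℤ) →+ (I → ℤ)} {P : Set (I → ℤ)} (hP : P.Finite) {lam0 mu : (I → ℤ) →+ ℤ}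
    (hl0 : lam0 ∈ Iv ρ) (hmu : mu ∈ Iv ρ) (hpos : ∀ a ∈ P, 0 < lam0 a) (hneg : ∃ a ∈ P, mu a < 0) :
    ∃ f ∈ Iv ρ, (∀ a ∈ P, 0 ≤ f a) ∧ (∃ a ∈ P, f a = 0) ∧ (∀ a ∈ P, f a = 0 → mu a < 0) ∧
      ∀ a ∈ P, ∀ b ∈ P, f a = 0 → f b = 0 → ∀ g ∈ Iv ρ, g a * lam0 b = g b * lam0 a := by
  classical
  -- the forms `g ↦ g a * mu b - g b * mu a`
  let F : (I → ℤ) × (I → ℤ) → ↥(Iv ρ) →+ ℤ := fun q =>
    { toFun := fun g => g.1 q.1 * mu q.2 - g.1 q.2 * mu q.1
      map_zero' := by simp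
      map_add' := fun g g' => by
        simp only [AddSubgroup.coe_add, AddMonoidHom.add_apply]; ring }
  have hF : ∀ q g, F q g = g.1 q.1 * mu q.2 - g.1 q.2 * mu q.1 := fun _ _ => rfl
  set bad : Finset ((I → ℤ) × (I → ℤ)) := (hP.toFinset ×ˢ hP.toFinset).filter fun q => ∃ g, F q g ≠ 0 with hbad
  obtain ⟨g0, hg0⟩ := exists_avoid bad F (fun q hq => (Finset.mem_filter.1 hq).2)
  -- a large multiple of `lam0`
  obtain ⟨K, hK0, hK1, hK2⟩ : ∃ K : ℤ, 0 < K ∧ (∀ a ∈ P, |g0.1 a| < K) ∧ ∀ q ∈ bad, |F q g0| < K := by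
    refine ⟨1 + ∑ a ∈ hP.toFinset, |g0.1 a| + ∑ q ∈ bad, |F q g0|, ?_, ?_, ?_⟩
    · have h1 : 0 ≤ ∑ a ∈ hP.toFinset, |g0.1 a| := Finset.sum_nonneg fun _ _ => abs_nonneg _
      have h2 : 0 ≤ ∑ q ∈ bad, |F q g0| := Finset.sum_nonneg fun _ _ => abs_nonneg _
      omega
    · intro a ha
      have h1 : |g0.1 a| ≤ ∑ a ∈ hP.toFinset, |g0.1 a| :=
        Finset.single_le_sum (f := fun a => |g0.1 a|) (fun _ _ => abs_nonneg _) (hP.mem_toFinset.2 ha)
      have h2 : 0 ≤ ∑ q ∈ bad, |F q g0| := Finset.sum_nonneg fun _ _ => abs_nonneg _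
      omega
    · intro q hq
      have h1 : |F q g0| ≤ ∑ q ∈ bad, |F q g0| :=
        Finset.single_le_sum (f := fun q => |F q g0|) (fun _ _ => abs_nonneg _) hq
      have h2 : 0 ≤ ∑ a ∈ hP.toFinset, |g0.1 a| := Finset.sum_nonneg fun _ _ => abs_nonneg _
      omega
  set lam : (I → ℤ) →+ ℤ := K • lam0 + g0.1 with hlam
  have hlamv : ∀ x, lam x = K * lam0 x + g0.1 x := fun x => by
    rw [hlam, AddMonoidHom.add_apply, AddMonoidHom.smul_apply, smul_eq_mul]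
  have hlamI : lam ∈ Iv ρ := (Iv ρ).add_mem ((Iv ρ).zsmul_mem hl0 K) g0.2
  have hlampos : ∀ a ∈ P, 0 < lam a := by
    intro a ha
    rw [hlamv]
    have h1 := hK1 a ha
    have h2 := hpos a ha
    have h3 := neg_abs_le (g0.1 a)
    nlinarith
  have hlamF : ∀ q ∈ bad, F q ⟨lam, hlamI⟩ ≠ 0 := by
    intro q hq h0
    have h1 : F q ⟨lam, hlamI⟩ = K * F q ⟨lam0, hl0⟩ + F q g0 := by
      rw [hF, hF, hF]
      simp only [hlamv]
      ring
    rw [h1] at h0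
    have h2 := hK2 q hq
    have h3 := hg0 q hq
    have h4 : F q ⟨lam0, hl0⟩ = 0 := by
      by_contra h5
      have h6 : 1 ≤ |F q ⟨lam0, hl0⟩| := Int.one_le_abs h5
      have h7 : F q g0 = -(K * F q ⟨lam0, hl0⟩) := by linarith
      rw [h7, abs_neg, abs_mul, abs_of_pos hK0] at h2
      nlinarith
    rw [h4, mul_zero, zero_add] at h0
    exact h3 h0
  -- the first wall on the segment from `lam` to `mu`
  obtain ⟨a0, ha0, hmin⟩ := Set.exists_min_image {a | a ∈ P ∧ mu a < 0} (fun a => (lam a : ℚ) / (-(mu a : ℤ) : ℤ))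
    (hP.subset fun a ha => ha.1) (by obtain ⟨a, ha, h1⟩ := hneg; exact ⟨a, ha, h1⟩)
  have hmin' : ∀ a ∈ P, mu a < 0 → lam a0 * (-(mu a)) ≤ lam a * (-(mu a0)) := by
    intro a ha h1
    have h2 := hmin a ⟨ha, h1⟩
    have h3 : (0 : ℚ) < ((-(mu a0) : ℤ) : ℚ) := by exact_mod_cast neg_pos.2 ha0.2
    have h4 : (0 : ℚ) < ((-(mu a) : ℤ) : ℚ) := by exact_mod_cast neg_pos.2 h1
    rw [div_le_div_iff₀ h3 h4] at h2
    exact_mod_cast h2
  set f : (I → ℤ) →+ ℤ := (-(mu a0)) • lam + (lam a0) • mu with hf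
  have hfv : ∀ x, f x = -(mu a0) * lam x + lam a0 * mu x := fun x => by
    rw [hf, AddMonoidHom.add_apply, AddMonoidHom.smul_apply, AddMonoidHom.smul_apply, smul_eq_mul, smul_eq_mul]
  have hneg0 : mu a0 < 0 := ha0.2
  have hzero : ∀ a ∈ P, f a = 0 → mu a < 0 := by
    intro a ha h0
    by_contra h1
    push Not at h1
    rw [hfv] at h0
    have h2 := hlampos a ha
    have h3 := hlampos a0 ha0.1
    have h4 : 0 < -(mu a0) * lam a := mul_pos (neg_pos.2 hneg0) h2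
    have h5 : 0 ≤ lam a0 * mu a := mul_nonneg h3.le h1
    linarith
  refine ⟨f, (Iv ρ).add_mem ((Iv ρ).zsmul_mem hlamI _) ((Iv ρ).zsmul_mem hmu _), ?_, ⟨a0, ha0.1, ?_⟩, hzero, ?_⟩
  · intro a ha
    rw [hfv]
    rcases lt_or_ge (mu a) 0 with h1 | h1
    · have := hmin' a ha h1
      linarith
    · have h2 := hlampos a ha
      have h3 := hlampos a0 ha0.1
      have h4 : 0 < -(mu a0) * lam a := mul_pos (neg_pos.2 hneg0) h2
      have h5 : 0 ≤ lam a0 * mu a := mul_nonneg h3.le h1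
      linarith
  · rw [hfv]; ring
  · intro a ha b hb h1 h2 g hg
    have hma := hzero a ha h1
    have hmb := hzero b hb h2
    -- the pair `(a, b)` is not bad
    have h3 : lam a * mu b = lam b * mu a := by
      rw [hfv] at h1 h2
      have h4 : mu a0 * (lam a * mu b - lam b * mu a) = 0 := by linear_combination (-mu b) * h1 + (mu a) * h2
      rcases mul_eq_zero.1 h4 with h5 | h5
      · exact absurd h5 hneg0.ne
      · linarith
    have h4 : (a, b) ∉ bad := by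
      intro h5
      apply hlamF _ h5
      rw [hF]
      simp only
      linarith
    have h5 : ∀ g : ↥(Iv ρ), F (a, b) g = 0 := by
      by_contra hcon
      push Not at hcon
      apply h4
      rw [hbad, Finset.mem_filter, Finset.mem_product, hP.mem_toFinset, hP.mem_toFinset]
      exact ⟨⟨ha, hb⟩, hcon⟩
    have h6 := h5 ⟨g, hg⟩
    have h7 := h5 ⟨lam0, hl0⟩
    rw [hF] at h6 h7
    simp only at h6 h7
    have h8 : mu a * (g a * lam0 b - g b * lam0 a) = 0 := by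
      linear_combination (lam0 a) * h6 - (g a) * h7
    rcases mul_eq_zero.1 h8 with h9 | h9
    · exact absurd h9 hma.ne
    · linarith

end Cfsg.Agent.BpExc.Zc

end

-- merged: Cfsg.Agent.BpExc.RelBN
section

/-!
# Relative root data for a closed set of roots (S1332-EXC (h), helper58)

`R : RGD cs h p T n X` in an ambient group `Y`, `S` a symmetric set of roots, `G ≤ Y`. A structure `Rel R S G ι` lists
"relative simple roots" `c i = {a ∈ S : a > 0, f i a = 0}` with reflections `k i ∈ G` and the facts needed to obtain a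
(B,N)-pair of `G` with `B = (U_S ⊓ G) (T ⊓ G)`.
-/

set_option autoImplicit false
set_option linter.unusedSectionVars false

namespace Cfsg.Agent.BpExc.RelBN

open CoxeterSystem Cfsg.Agent.ChevalleyStructure.CoxeterGeom Cfsg.Agent.Tits.Roots Cfsg.Agent.Tits.Core
  Cfsg.Agent.Tits.Exchange Cfsg.Agent.Nodes.Reps Cfsg.Agent.Nodes.BNOf Cfsg.Agent.Nodes.StabComb
  Cfsg.Agent.Nodes.Comb Cfsg.Agent.Nodes.Bruhat Cfsg.Agent.Nodes.OppDec Cfsg.Agent.Nodes.Slope
  Cfsg.Agent.ChevalleyStructure.AbstractBN Cfsg.Agent.BpExc.Zc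
open scoped commutatorElement

variable {I W Y : Type*} [Fintype I] [DecidableEq I] [Group W] [Group Y] {M : CoxeterMatrix I}
  {cs : CoxeterSystem M W} {A : I → I → ℤ} {h : IsCartan M A} {p : ℕ} {T : Subgroup Y} {n : I → Y}
  {X : (I → ℤ) → Subgroup Y}

/-- the positive elements of `S` -/
def Sp (S : Set (I → ℤ)) : Set (I → ℤ) := {a | a ∈ S ∧ 0 ≤ a}

/-- the positive elements of `S` killed by `f` -/
def cl (S : Set (I → ℤ)) (f : (I → ℤ) →+ ℤ) : Set (I → ℤ) := {a | a ∈ S ∧ 0 ≤ a ∧ f a = 0}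

/-- the negatives of the elements of `cl S f` -/
def clN (S : Set (I → ℤ)) (f : (I → ℤ) →+ ℤ) : Set (I → ℤ) := {a | a ∈ S ∧ a ≤ 0 ∧ f a = 0}

/-- the positive elements of `S` with `f > 0` -/
def cp (S : Set (I → ℤ)) (f : (I → ℤ) →+ ℤ) : Set (I → ℤ) := {a | a ∈ S ∧ 0 ≤ a ∧ 0 < f a}

/-- Relative root data, without generation. -/
structure Pre (R : RGD cs h p T n X) (S : Set (I → ℤ)) (G : Subgroup Y) (ι : Type*) where
  /-- the functionals -/
  f : ι → (I → ℤ) →+ ℤ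
  /-- the reflections in `Y` -/
  k : ι → Y
  /-- the reflections in `W` -/
  w : ι → W
  root : ∀ a ∈ S, IsRoot cs h a
  neg : ∀ a ∈ S, -a ∈ S
  fpos : ∀ i, ∀ a ∈ S, 0 ≤ a → 0 ≤ f i a
  rp : ∀ i, Rp cs R.nsys (w i) (k i)
  kG : ∀ i, k i ∈ G
  wf : ∀ i x, f i (rep cs h (w i) x) = f i x
  wS : ∀ i, ∀ a ∈ S, rep cs h (w i) a ∈ S
  wneg : ∀ i, ∀ a ∈ cl S (f i), rep cs h (w i) a ≤ 0
  sq : ∀ i, k i * k i ∈ T
  injc : ∀ i j, cl S (f i) = cl S (f j) → i = j
  cases : ∀ v g, Rp cs R.nsys v g → g ∈ G → (∀ a ∈ S, rep cs h v a ∈ S) → ∀ i,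
    (∀ a ∈ cl S (f i), 0 ≤ rep cs h v a) ∨ (∀ a ∈ cl S (f i), rep cs h v a ≤ 0)
  dec : ∀ i, ∀ u ∈ RGD.Sup X (Sp S), u ∈ G → ∃ v ∈ RGD.Sup X (cp S (f i)), ∃ x ∈ RGD.Sup X (cl S (f i)), x ∈ G ∧
    u = v * x
  rk : ∀ i, ∀ y ∈ RGD.Sup X (clN S (f i)), y ∈ G → y ≠ 1 →
    ∃ u ∈ RGD.Sup X (cl S (f i)), u ∈ G ∧ ∃ t ∈ T, t ∈ G ∧ ∃ v ∈ RGD.Sup X (cl S (f i)), v ∈ G ∧
      y = u * t * k i * v
  ne : ∀ i, ∃ x ∈ RGD.Sup X (cl S (f i)), x ∈ G ∧ x ≠ 1

/-- Relative root data. -/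
structure Rel (R : RGD cs h p T n X) (S : Set (I → ℤ)) (G : Subgroup Y) (ι : Type*) extends Pre R S G ι where
  gen : G ≤ (RGD.Sup X (Sp S) ⊓ G) ⊔ Subgroup.closure (Set.range k) ⊔ (T ⊓ G)

/-- the positive roots of `S` made negative by `v` -/
def NgS (cs : CoxeterSystem M W) (h : IsCartan M A) (S : Set (I → ℤ)) (v : W) : Set (I → ℤ) :=
  {a | a ∈ Sp S ∧ rep cs h v a ≤ 0}

namespace Pre

variable {R : RGD cs h p T n X} {S : Set (I → ℤ)} {G : Subgroup Y} {ι : Type*} (D : Pre R S G ι)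

theorem cl_sub (i : ι) : cl S (D.f i) ⊆ Sp S := fun _ ha => ⟨ha.1, ha.2.1⟩

theorem cp_sub (i : ι) : cp S (D.f i) ⊆ Sp S := fun _ ha => ⟨ha.1, ha.2.1⟩

include D

theorem Sp_root : ∀ a ∈ Sp S, IsRoot cs h a := fun a ha => D.root a ha.1

theorem Sup_le_U : RGD.Sup X (Sp S) ≤ RGD.Sup X (RGD.Pos cs h) :=
  RGD.Sup_mono fun a ha => ⟨D.root a ha.1, ha.2⟩

theorem T_norm {t : Y} (ht : t ∈ T) {S' : Set (I → ℤ)} (hS' : ∀ a ∈ S', IsRoot cs h a) {u : Y}
    (hu : u ∈ RGD.Sup X S') : t * u * t⁻¹ ∈ RGD.Sup X S' :=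
  (Subgroup.mem_normalizer_iff.1 (R.T_le_normalizer (S := S') hS' ht) u).1 hu

/-- `w i` maps the positive roots with `f i > 0` to positive roots. -/
theorem w_cp (i : ι) {a : I → ℤ} (ha : a ∈ cp S (D.f i)) : rep cs h (D.w i) a ∈ cp S (D.f i) := by
  obtain ⟨h1, h2, h3⟩ := ha
  have h4 := D.wS i a h1
  have h5 : 0 < D.f i (rep cs h (D.w i) a) := by rw [D.wf]; exact h3
  refine ⟨h4, ?_, h5⟩
  rcases (D.root _ h4).pos_or_neg with h6 | h6
  · exact h6
  · exfalso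
    have h7 := D.fpos i _ (D.neg _ h4) (neg_nonneg.2 h6)
    rw [map_neg] at h7
    linarith

theorem w_cl (i : ι) {a : I → ℤ} (ha : a ∈ cl S (D.f i)) : rep cs h (D.w i) a ∈ clN S (D.f i) :=
  ⟨D.wS i a ha.1, D.wneg i a ha, by rw [D.wf]; exact ha.2.2⟩

theorem NgS_w (i : ι) : NgS cs h S (D.w i) = cl S (D.f i) := by
  ext a
  constructor
  · rintro ⟨ha, h1⟩
    refine ⟨ha.1, ha.2, ?_⟩
    rcases (D.fpos i a ha.1 ha.2).eq_or_lt with h2 | h2
    · exact h2.symm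
    · exfalso
      have h3 := D.w_cp i ⟨ha.1, ha.2, h2⟩
      exact (D.root _ h3.1).not_pos_neg h3.2.1 h1
  · intro ha
    exact ⟨⟨ha.1, ha.2.1⟩, D.wneg i a ha⟩

theorem inj {i j : ι} (e : D.w i = D.w j) : i = j := by
  apply D.injc
  rw [← D.NgS_w, ← D.NgS_w, e]

variable [Finite W]

/-- `w i` is an involution -/
theorem w_sq (i : ι) : D.w i * D.w i = 1 :=
  R.eq_one_of_mem_B ((D.rp i).mul (D.rp i)) (RGD.T_le_B (D.sq i))

theorem w_inv (i : ι) : (D.w i)⁻¹ = D.w i := inv_eq_of_mul_eq_one_left (D.w_sq i)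

omit D [Finite W] in
theorem mem_UH_le : RGD.Sup X (RGD.Pos cs h) ⊔ T ≤ RGD.B cs h T X := sup_le RGD.U_le_B RGD.T_le_B

theorem not_le (i : ι) {x : Y} (hx : x ∈ RGD.Sup X (cl S (D.f i))) (hx1 : x ≠ 1) :
    D.k i * x * (D.k i)⁻¹ ∉ RGD.B cs h T X := by
  intro hB
  have h1 : D.k i * x * (D.k i)⁻¹ ∈ UN cs h X :=
    conj_mem_Sup R (D.rp i) (S := cl S (D.f i)) (S' := Neg cs h) (fun a ha => D.root a ha.1)
      (fun a ha => ⟨(D.root a ha.1).act _, D.wneg i a ha⟩) hx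
  have h2 := eq_one_of_mem_UN_of_mem_B R h1 hB
  rw [conj_eq_one_iff] at h2
  exact hx1 h2

/-- the elements `k i` inside `G` -/
def kk (i : ι) : ↥G := ⟨D.k i, D.kG i⟩

/-- the monomial subgroup of `G` -/
def NG : Subgroup ↥G := Subgroup.closure (Set.range D.kk) ⊔ T.subgroupOf G

theorem NG_le (m : ↥G) (hm : m ∈ D.NG) : ∃ v ∈ Subgroup.closure (Set.range D.w), Rp cs R.nsys v (m : Y) := by
  let Q : Subgroup Y :=
    { carrier := {g | ∃ v ∈ Subgroup.closure (Set.range D.w), Rp cs R.nsys v g}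
      one_mem' := ⟨1, one_mem _, rp_one⟩
      mul_mem' := by
        rintro a b ⟨v, hv, h1⟩ ⟨w, hw, h2⟩
        exact ⟨v * w, mul_mem hv hw, h1.mul h2⟩
      inv_mem' := by
        rintro a ⟨v, hv, h1⟩
        exact ⟨v⁻¹, inv_mem hv, h1.inv⟩ }
  have h1 : D.NG ≤ Q.comap G.subtype := by
    apply sup_le
    · rw [Subgroup.closure_le]
      rintro _ ⟨i, rfl⟩
      exact ⟨D.w i, Subgroup.subset_closure ⟨i, rfl⟩, D.rp i⟩
    · intro g hg
      exact ⟨1, one_mem _, rp_of_mem hg⟩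
  exact h1 hm

theorem closure_w {v : W} (hv : v ∈ Subgroup.closure (Set.range D.w)) : ∀ a ∈ S, rep cs h v a ∈ S := by
  induction hv using Subgroup.closure_induction with
  | mem x hx =>
    obtain ⟨i, rfl⟩ := hx
    exact D.wS i
  | one => intro a ha; rwa [map_one, Module.End.one_apply]
  | mul x y _ _ h1 h2 => intro a ha; rw [rep_mul_apply]; exact h1 _ (h2 a ha)
  | inv x hx h1 =>
    intro a ha
    have h2 : ∀ m : ℕ, ∀ a ∈ S, rep cs h (x ^ m) a ∈ S := by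
      intro m
      induction m with
      | zero => intro a ha; rwa [pow_zero, map_one, Module.End.one_apply]
      | succ m ih => intro a ha; rw [pow_succ', rep_mul_apply]; exact h1 _ (ih a ha)
    have h3 : x⁻¹ = x ^ (orderOf x - 1) := by
      symm
      apply eq_inv_of_mul_eq_one_left
      rw [← pow_succ, Nat.sub_add_cancel (orderOf_pos x), pow_orderOf_eq_one]
    rw [h3]
    exact h2 _ a ha

theorem cl_nonempty (i : ι) : (cl S (D.f i)).Nonempty := by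
  rw [Set.nonempty_iff_ne_empty]
  intro he
  obtain ⟨x, hx, -, hx1⟩ := D.ne i
  rw [he, Sup_empty, Subgroup.mem_bot] at hx
  exact hx1 hx

/-- multiplying by `w i` on the right removes `cl i` from the set of positive roots made negative -/
theorem ncard_lt (i : ι) (v : W) (hv : ∀ a ∈ cl S (D.f i), rep cs h v a ≤ 0) :
    (NgS cs h S (v * D.w i)).ncard < (NgS cs h S v).ncard := by
  have hfin : (NgS cs h S v).Finite :=
    (RGD.finite_roots (cs := cs) (h := h)).subset fun a ha => D.root a ha.1.1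
  have hfin' : (NgS cs h S v \ cl S (D.f i)).Finite := hfin.subset Set.sdiff_subset
  have h1 : (NgS cs h S (v * D.w i)).ncard ≤ (NgS cs h S v \ cl S (D.f i)).ncard := by
    refine Set.ncard_le_ncard_of_injOn (fun a => rep cs h (D.w i) a) ?_ ?_ hfin'
    · rintro a ⟨ha, hva⟩
      rw [rep_mul_apply] at hva
      rcases (D.fpos i a ha.1 ha.2).eq_or_lt with h2 | h2
      · exfalso
        have h3 := D.w_cl i (a := a) ⟨ha.1, ha.2, h2.symm⟩
        have h4 : -rep cs h (D.w i) a ∈ cl S (D.f i) :=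
          ⟨D.neg _ h3.1, neg_nonneg.2 h3.2.1, by rw [map_neg, h3.2.2, neg_zero]⟩
        have h5 := hv _ h4
        rw [map_neg, neg_nonpos] at h5
        exact (((D.root a ha.1).act (D.w i)).act v).not_pos_neg h5 hva
      · have h3 := D.w_cp i (a := a) ⟨ha.1, ha.2, h2⟩
        exact ⟨⟨⟨h3.1, h3.2.1⟩, hva⟩, fun h4 => h3.2.2.ne' h4.2.2⟩
    · intro a _ b _ e
      have e' : rep cs h (D.w i) a = rep cs h (D.w i) b := e
      have := congrArg (rep cs h (D.w i)⁻¹) e'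
      rwa [rep_inv_apply, rep_inv_apply] at this
  refine lt_of_le_of_lt h1 (Set.ncard_lt_ncard ?_ hfin)
  obtain ⟨a, ha⟩ := D.cl_nonempty i
  refine ⟨Set.sdiff_subset, fun h2 => ?_⟩
  exact (h2 (⟨⟨ha.1, ha.2.1⟩, hv a ha⟩ : a ∈ NgS cs h S v)).2 ha

theorem lt_ncard (i : ι) (v : W) (hv : ∀ a ∈ cl S (D.f i), 0 ≤ rep cs h v a) :
    (NgS cs h S v).ncard < (NgS cs h S (v * D.w i)).ncard := by
  have h1 := D.ncard_lt i (v * D.w i) (fun a ha => by
    rw [rep_mul_apply]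
    have h3 := D.w_cl i ha
    have h4 := hv (-rep cs h (D.w i) a) ⟨D.neg _ h3.1, neg_nonneg.2 h3.2.1, by rw [map_neg, h3.2.2, neg_zero]⟩
    rw [map_neg] at h4
    exact neg_nonneg.1 h4)
  rwa [mul_assoc, D.w_sq, mul_one] at h1

end Pre

namespace Rel

variable {R : RGD cs h p T n X} {S : Set (I → ℤ)} {G : Subgroup Y} {ι : Type*} (D : Rel R S G ι) [Finite W]

include D

/-- The data for the abstract criterion. -/
def toRootData : RootData ↥G ι where
  U := (RGD.Sup X (Sp S)).subgroupOf G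
  H := T.subgroupOf G
  N := D.NG
  n := D.kk
  X := fun i => {x | (x : Y) ∈ RGD.Sup X (cl S (D.f i))}
  Y := fun i => {x | (x : Y) ∈ RGD.Sup X (clN S (D.f i))}
  U' := fun i => {x | (x : Y) ∈ RGD.Sup X (cp S (D.f i))}
  conj_H_U := fun t ht u hu => D.T_norm ht D.Sp_root hu
  conj_N_H := by
    intro m hm t ht
    obtain ⟨v, -, hv⟩ := D.NG_le m hm
    exact (Subgroup.mem_normalizer_iff.1 hv.mem_normalizer (t : Y)).1 ht
  N_eq := rfl
  sup_top := by
    apply top_le_iff.1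
    intro g _
    have key : G ≤ (((RGD.Sup X (Sp S)).subgroupOf G ⊔ D.NG).map G.subtype) := by
      refine D.gen.trans (sup_le (sup_le ?_ ?_) ?_)
      · rintro g ⟨hU, hG⟩
        exact ⟨⟨g, hG⟩, Subgroup.mem_sup_left hU, rfl⟩
      · rw [Subgroup.closure_le]
        rintro _ ⟨i, rfl⟩
        exact ⟨D.kk i, Subgroup.mem_sup_right
          (Subgroup.mem_sup_left (Subgroup.subset_closure ⟨i, rfl⟩)), rfl⟩
      · rintro g ⟨hT, hG⟩
        exact ⟨⟨g, hG⟩, Subgroup.mem_sup_right (Subgroup.mem_sup_right hT), rfl⟩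
    obtain ⟨g', hg', he⟩ := key g.2
    have : g' = g := Subtype.ext he
    exact this ▸ hg'
  sq_mem := fun i => D.sq i
  decomp := by
    rintro i u hu
    obtain ⟨v, hv, x, hx, hxG, e⟩ := D.dec i u hu u.2
    have hvG : v ∈ G := by
      have : v = (u : Y) * x⁻¹ := by rw [e]; group
      rw [this]
      exact G.mul_mem u.2 (G.inv_mem hxG)
    exact ⟨⟨v, hvG⟩, hv, ⟨x, hxG⟩, hx, Subtype.ext e⟩
  conj_n_U' := fun i v hv => conj_mem_Sup R (D.rp i) (S := cp S (D.f i)) (S' := Sp S) (fun a ha => D.root a ha.1)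
    (fun a ha => D.cp_sub i (D.w_cp i ha)) hv
  conj_n_X := fun i x hx => conj_mem_Sup R (D.rp i) (S := cl S (D.f i)) (S' := clN S (D.f i))
    (fun a ha => D.root a ha.1) (fun a ha => D.w_cl i ha) hx
  conj_n_inv_X := fun i x hx => conj_mem_Sup' R (D.rp i) (S := cl S (D.f i)) (S' := clN S (D.f i))
    (fun a ha => D.root a ha.1) (fun a ha => by rw [D.w_inv]; exact D.w_cl i ha) hx
  rank_one := by
    intro i y hy hy1
    have hy1' : (y : Y) ≠ 1 := fun e => hy1 (Subtype.ext e)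
    obtain ⟨u, hu, huG, t, ht, htG, v, hv, hvG, e⟩ := D.rk i y hy y.2 hy1'
    exact ⟨⟨u, huG⟩, RGD.Sup_mono (D.cl_sub i) hu, ⟨t, htG⟩, ht, ⟨v, hvG⟩, hv, Subtype.ext e⟩
  root_cases := by
    intro m hm i
    obtain ⟨v, hvw, hv⟩ := D.NG_le m hm
    have hNS := D.closure_w (inv_mem hvw)
    rcases D.cases v⁻¹ (m : Y)⁻¹ hv.inv (G.inv_mem m.2) hNS i with hc | hc
    · left
      intro x hx
      refine conj_mem_Sup' R hv (S := cl S (D.f i)) (S' := Sp S) (fun a ha => D.root a ha.1) (fun a ha => ?_) hx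
      exact ⟨hNS a ha.1, hc a ha⟩
    · right
      intro x hx
      refine conj_mem_Sup' R hv (S := clN S (D.f i)) (S' := Sp S) (fun a ha => D.root a ha.1) (fun a ha => ?_) hx
      have h1 : -a ∈ cl S (D.f i) := ⟨D.neg a ha.1, neg_nonneg.2 ha.2.1, by rw [map_neg, ha.2.2, neg_zero]⟩
      have h2 := hc _ h1
      rw [map_neg, neg_nonpos] at h2
      exact ⟨hNS a ha.1, h2⟩
  inf_le := by
    intro u hu t ht hN
    obtain ⟨v, -, hv⟩ := D.NG_le _ hN
    have h1 : ((u * t : ↥G) : Y) ∈ RGD.B cs h T X :=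
      mul_mem (RGD.U_le_B (D.Sup_le_U hu)) (RGD.T_le_B ht)
    have h2 := R.eq_one_of_mem_B hv h1
    subst h2
    have h3 : (u : Y) * (t : Y) ∈ T := hv.mem_of_one
    have h4 : (u : Y) ∈ T := by
      have := T.mul_mem h3 (T.inv_mem ht)
      simpa using this
    exact h4
  n_ne := by
    intro i j hne hH
    apply hne
    have h1 : Rp cs R.nsys ((D.w i)⁻¹ * D.w j) ((D.k i)⁻¹ * D.k j) := (D.rp i).inv.mul (D.rp j)
    have h2 := R.eq_one_of_mem_B h1 (RGD.T_le_B hH)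
    rw [D.inj (inv_mul_eq_one.1 h2)]
  not_le := by
    intro i
    obtain ⟨x, hx, hxG, hx1⟩ := D.ne i
    refine ⟨⟨x, hxG⟩, RGD.Sup_mono (D.cl_sub i) hx, fun hmem => ?_⟩
    apply D.not_le i hx hx1
    have h1 : ((RGD.Sup X (Sp S)).subgroupOf G ⊔ T.subgroupOf G) ≤ (RGD.B cs h T X).comap G.subtype :=
      sup_le (fun g hg => RGD.U_le_B (D.Sup_le_U hg)) (fun g hg => RGD.T_le_B hg)
    exact h1 hmem

/-- the (B,N)-pair -/
def bn : Cfsg.BNPair ↥G := D.toRootData.bnPair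

theorem bn_B : D.bn.B = (RGD.Sup X (Sp S)).subgroupOf G ⊔ T.subgroupOf G := rfl

theorem bn_S : D.bn.S = Set.range D.kk := rfl

theorem mem_bn_B {g : ↥G} : g ∈ D.bn.B ↔ ∃ u ∈ RGD.Sup X (Sp S), u ∈ G ∧ ∃ t ∈ T, t ∈ G ∧ (g : Y) = u * t := by
  rw [show D.bn.B = D.toRootData.B from rfl, D.toRootData.mem_B_iff]
  constructor
  · rintro ⟨u, hu, t, ht, rfl⟩
    exact ⟨u, hu, u.2, t, ht, t.2, rfl⟩
  · rintro ⟨u, hu, huG, t, ht, htG, e⟩
    exact ⟨⟨u, huG⟩, hu, ⟨t, htG⟩, ht, Subtype.ext e⟩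

theorem bn_B_le {g : ↥G} (hg : g ∈ D.bn.B) : (g : Y) ∈ RGD.B cs h T X := by
  obtain ⟨u, hu, -, t, ht, -, e⟩ := D.mem_bn_B.1 hg
  rw [e]
  exact mul_mem (RGD.U_le_B (D.Sup_le_U hu)) (RGD.T_le_B ht)

theorem bn_N_le {g : ↥G} (hg : g ∈ D.bn.N) : ∃ v ∈ Subgroup.closure (Set.range D.w), Rp cs R.nsys v (g : Y) :=
  D.NG_le g hg

/-- Bruhat decomposition in `G`. -/
theorem bruhat {g : Y} (hg : g ∈ G) : ∃ u ∈ RGD.Sup X (Sp S), ∃ v ∈ Subgroup.closure (Set.range D.w), ∃ k,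
    Rp cs R.nsys v k ∧ k ∈ G ∧ ∃ x ∈ RGD.Sup X (Sp S), u ∈ G ∧ x ∈ G ∧ g = u * k * x := by
  obtain ⟨m, hm, hC⟩ := LieExceptional.BNPairCore.bruhat (P := D.bn) ⟨g, hg⟩
  obtain ⟨b, hb, b', hb', e⟩ := LieExceptional.BNPairCore.mem_C.1 hC
  obtain ⟨v, hv, hvm⟩ := D.bn_N_le hm
  obtain ⟨u, hu, huG, t, ht, htG, e1⟩ := D.mem_bn_B.1 hb
  have hb2 : b'⁻¹ ∈ D.bn.B := inv_mem hb'
  obtain ⟨u', hu', huG', t', ht', htG', e2⟩ := D.mem_bn_B.1 hb2
  refine ⟨u, hu, v, hv, t * (m : Y) * t'⁻¹, ?_, G.mul_mem (G.mul_mem htG m.2) (G.inv_mem htG'), u'⁻¹, inv_mem hu', huG,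
    G.inv_mem huG', ?_⟩
  · have := (rp_of_mem (cs := cs) (hN := R.nsys) ht).mul (hvm.mul_mem_right (T.inv_mem ht'))
    rw [one_mul] at this
    rwa [mul_assoc]
  · have e3 : (b' : Y) = t'⁻¹ * u'⁻¹ := by
      have : ((b'⁻¹ : ↥G) : Y)⁻¹ = (b' : Y) := by simp
      rw [← this, e2]; group
    have e4 : g = (b : Y) * (m : Y) * (b' : Y) := congrArg Subtype.val e
    rw [e4, e1, e3]; group

end Rel

end Cfsg.Agent.BpExc.RelBN

end

-- merged: Cfsg.Agent.BpExc.SubBN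
section

/-!
# The group of a closed symmetric set of roots (S1332-EXC (h), helper58)

`R : RGD cs h p T n X`, `CommZ`, `S` an integrally closed symmetric set of roots, `GS = ⟨T, X a : a ∈ S⟩`,
`WS` the group generated by the reflections in the elements of `S`.

* `rel` : relative root data for `GS`, `S` (hence a (B,N)-pair);
* `exists_form` : `g ∈ GS` is `u k x`, `u ∈ U_S`, `k` a representative of `v ∈ WS`, `x ∈ Sup X {a ∈ S⁺ : v a < 0}`;
* `eq_one` : an element of `WS` preserving `S⁺` is trivial.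
-/

set_option autoImplicit false
set_option linter.unusedSectionVars false

namespace Cfsg.Agent.BpExc.SubBN

open CoxeterSystem Cfsg.Agent.ChevalleyStructure.CoxeterGeom Cfsg.Agent.Tits.Roots Cfsg.Agent.Tits.Core
  Cfsg.Agent.Tits.Exchange Cfsg.Agent.Nodes.Reps Cfsg.Agent.Nodes.BNOf Cfsg.Agent.Nodes.StabComb
  Cfsg.Agent.Nodes.Comb Cfsg.Agent.Nodes.Bruhat Cfsg.Agent.Nodes.OppDec Cfsg.Agent.Nodes.Slope
  Cfsg.Agent.Nodes.NormalForm Cfsg.Agent.Nodes.SubComb Cfsg.Agent.Nodes.Coroot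
  Cfsg.Agent.ChevalleyStructure.AbstractBN Cfsg.Agent.BpExc.Zc Cfsg.Agent.BpExc.RelBN
open scoped commutatorElement

variable {I W Y : Type*} [Fintype I] [DecidableEq I] [Group W] [Group Y] {M : CoxeterMatrix I}
  {cs : CoxeterSystem M W} {A : I → I → ℤ} {h : IsCartan M A} {p : ℕ} {T : Subgroup Y} {n : I → Y}
  {X : (I → ℤ) → Subgroup Y}

/-- The reflection group of `S`. -/
def WS (cs : CoxeterSystem M W) (h : IsCartan M A) (S : Set (I → ℤ)) : Subgroup W :=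
  Subgroup.closure {r | ∃ v j, rep cs h v (sr j) ∈ S ∧ r = rfl' cs v j}

/-- The group of `S`. -/
def GS (T : Subgroup Y) (X : (I → ℤ) → Subgroup Y) (S : Set (I → ℤ)) : Subgroup Y := RGD.Sup X S ⊔ T

theorem X_le_GS {S : Set (I → ℤ)} {a : I → ℤ} (ha : a ∈ S) : X a ≤ GS T X S := le_trans (RGD.le_Sup ha) le_sup_left

theorem T_le_GS {S : Set (I → ℤ)} : T ≤ GS T X S := le_sup_right

theorem Sup_le_GS {S S' : Set (I → ℤ)} (h' : S' ⊆ S) : RGD.Sup X S' ≤ GS T X S := le_trans (RGD.Sup_mono h') le_sup_left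

theorem WS_mono {S S' : Set (I → ℤ)} (h' : S' ⊆ S) : WS cs h S' ≤ WS cs h S := by
  refine Subgroup.closure_mono ?_
  rintro r ⟨v, j, h1, h2⟩
  exact ⟨v, j, h' h1, h2⟩

section Comb

variable [Finite W] {S : Set (I → ℤ)} (hS : ZClosed cs h S) (hn : ∀ a ∈ S, -a ∈ S)

include hS hn

theorem refl_mem {v : W} {j : I} (hv : rep cs h v (sr j) ∈ S) {b : I → ℤ} (hb : b ∈ S) :
    rep cs h (rfl' cs v j) b ∈ S := by
  have hr : IsRoot cs h (rep cs h (rfl' cs v j) b) := (hS.root b hb).act _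
  have e := rep_rfl'_eq cs h v j b
  rcases lt_trichotomy (cpr cs h b (rep cs h v (sr j))) 0 with h1 | h1 | h1
  · refine hS.btw b hb _ hv _ ⟨hr, 1, -(cpr cs h b (rep cs h v (sr j))), one_pos, neg_pos.2 h1, ?_⟩
    rw [e, one_smul, neg_smul, sub_eq_add_neg]
  · rw [e, h1, zero_smul, sub_zero]; exact hb
  · refine hS.btw b hb _ (hn _ hv) _ ⟨hr, 1, cpr cs h b (rep cs h v (sr j)), one_pos, h1, ?_⟩
    rw [e, one_smul, smul_neg, sub_eq_add_neg]

omit [Finite W] hS hn in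
theorem rfl_mul_self (v : W) (j : I) : rfl' cs v j * rfl' cs v j = 1 := by
  unfold rfl'
  have : v * cs.simple j * v⁻¹ * (v * cs.simple j * v⁻¹) = v * (cs.simple j * cs.simple j) * v⁻¹ := by group
  rw [this, cs.simple_mul_simple_self]; group

theorem WS_mem {v : W} (hv : v ∈ WS cs h S) : ∀ a ∈ S, rep cs h v a ∈ S := by
  unfold WS at hv
  induction hv using Subgroup.closure_induction with
  | mem x hx =>
    obtain ⟨v, j, h1, rfl⟩ := hx
    exact fun a ha => refl_mem hS hn h1 ha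
  | one => intro a ha; rwa [map_one, Module.End.one_apply]
  | mul x y _ _ h1 h2 => intro a ha; rw [rep_mul_apply]; exact h1 _ (h2 a ha)
  | inv x hx h1 =>
    intro a ha
    have h2 : ∀ m : ℕ, ∀ a ∈ S, rep cs h (x ^ m) a ∈ S := by
      intro m
      induction m with
      | zero => intro a ha; rwa [pow_zero, map_one, Module.End.one_apply]
      | succ m ih => intro a ha; rw [pow_succ', rep_mul_apply]; exact h1 _ (ih a ha)
    have h3 : x⁻¹ = x ^ (orderOf x - 1) := by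
      symm
      apply eq_inv_of_mul_eq_one_left
      rw [← pow_succ, Nat.sub_add_cancel (orderOf_pos x), pow_orderOf_eq_one]
    rw [h3]
    exact h2 _ a ha

omit hS hn in
/-- `WS` preserves the functionals killing `S`. -/
theorem WS_f {f : (I → ℤ) →+ ℤ} (hf : ∀ a ∈ S, f a = 0) {v : W} (hv : v ∈ WS cs h S) :
    ∀ x, f (rep cs h v x) = f x := by
  unfold WS at hv
  induction hv using Subgroup.closure_induction with
  | mem x hx =>
    obtain ⟨v, j, h1, rfl⟩ := hx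
    intro x
    rw [rep_rfl'_eq cs h v j x, map_sub, map_zsmul, hf _ h1, smul_zero, sub_zero]
  | one => intro a; rw [map_one, Module.End.one_apply]
  | mul x y _ _ h1 h2 => intro a; rw [rep_mul_apply, h1, h2]
  | inv x _ h1 =>
    intro a
    have h2 := h1 (rep cs h x⁻¹ a)
    rw [rep_apply_inv] at h2
    exact h2.symm

/-- a permutation of `S` preserving `S⁺` preserves it also backwards -/
theorem inv_Sp {v : W} (hv : ∀ a ∈ S, rep cs h v a ∈ S) (hp : ∀ a ∈ Sp S, 0 ≤ rep cs h v a) :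
    ∀ a ∈ Sp S, rep cs h v⁻¹ a ∈ Sp S := by
  intro a ha
  have h2 : ∀ m : ℕ, ∀ a ∈ Sp S, rep cs h (v ^ m) a ∈ Sp S := by
    intro m
    induction m with
    | zero => intro a ha; rwa [pow_zero, map_one, Module.End.one_apply]
    | succ m ih =>
      intro a ha
      rw [pow_succ', rep_mul_apply]
      exact ⟨hv _ (ih a ha).1, hp _ (ih a ha)⟩
  have h3 : v⁻¹ = v ^ (orderOf v - 1) := by
    symm
    apply eq_inv_of_mul_eq_one_left
    rw [← pow_succ, Nat.sub_add_cancel (orderOf_pos v), pow_orderOf_eq_one]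
  rw [h3]
  exact h2 _ a ha

end Comb

/-! ### the simple roots of `S` -/

/-- Exposed positive roots. -/
def Simp (S : Set (I → ℤ)) (a : I → ℤ) : Prop :=
  a ∈ S ∧ 0 ≤ a ∧ ∃ f : (I → ℤ) →+ ℤ, f a = 0 ∧ ∀ b ∈ S, 0 ≤ b → b ≠ a → 0 < f b

variable (R : RGD cs h p T n X)

include R in
theorem exists_rp_WS {S : Set (I → ℤ)} (hn : ∀ a ∈ S, -a ∈ S) {v : W} (hv : v ∈ WS cs h S) :
    ∃ k ∈ GS T X S, Rp cs R.nsys v k := by
  unfold WS at hv
  induction hv using Subgroup.closure_induction with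
  | mem x hx =>
    obtain ⟨v, j, h1, rfl⟩ := hx
    obtain ⟨k, hk, hk'⟩ := TorCent.exists_rfl R v j
    exact ⟨k, (sup_le T_le_GS (sup_le (X_le_GS h1) (X_le_GS (hn _ h1))) :
      T ⊔ (X (rep cs h v (sr j)) ⊔ X (-rep cs h v (sr j))) ≤ GS T X S) hk, hk'⟩
  | one => exact ⟨1, one_mem _, rp_one⟩
  | mul x y _ _ h1 h2 =>
    obtain ⟨k, hk, hk'⟩ := h1
    obtain ⟨l, hl, hl'⟩ := h2
    exact ⟨k * l, mul_mem hk hl, hk'.mul hl'⟩
  | inv x _ h1 =>
    obtain ⟨k, hk, hk'⟩ := h1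
    exact ⟨k⁻¹, inv_mem hk, hk'.inv⟩

section Main

variable [Finite W] (hZ : CommZ cs h X) {S : Set (I → ℤ)} (hS : ZClosed cs h S) (hn : ∀ a ∈ S, -a ∈ S)

/-- data attached to a simple root of `S` -/
theorem exists_data (_hn : ∀ a ∈ S, -a ∈ S) (hroot : ∀ a ∈ S, IsRoot cs h a) (a : {a // Simp S a}) :
    ∃ (f : (I → ℤ) →+ ℤ) (w : W) (k : Y), f a.1 = 0 ∧ (∀ b ∈ S, 0 ≤ b → b ≠ a.1 → 0 < f b) ∧
      (∃ v j, rep cs h v (sr j) = a.1 ∧ w = rfl' cs v j) ∧ Rp cs R.nsys w k ∧ k ∈ T ⊔ (X a.1 ⊔ X (-a.1)) := by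
  obtain ⟨a, ha, h0, f, hf, hf'⟩ := a
  obtain ⟨v, j, e⟩ := hroot a ha
  obtain ⟨k, hk, hk'⟩ := TorCent.exists_rfl R v j
  refine ⟨f, rfl' cs v j, k, hf, hf', ⟨v, j, e.symm, rfl⟩, hk', ?_⟩
  rw [← e] at hk
  exact hk

/-- the functional of a simple root -/
noncomputable def fS (hn : ∀ a ∈ S, -a ∈ S) (hroot : ∀ a ∈ S, IsRoot cs h a) (a : {a // Simp S a}) : (I → ℤ) →+ ℤ :=
  (exists_data R hn hroot a).choose

/-- the reflection of a simple root -/
noncomputable def wS (hn : ∀ a ∈ S, -a ∈ S) (hroot : ∀ a ∈ S, IsRoot cs h a) (a : {a // Simp S a}) : W :=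
  (exists_data R hn hroot a).choose_spec.choose

/-- the representative of the reflection of a simple root -/
noncomputable def kS (hn : ∀ a ∈ S, -a ∈ S) (hroot : ∀ a ∈ S, IsRoot cs h a) (a : {a // Simp S a}) : Y :=
  (exists_data R hn hroot a).choose_spec.choose_spec.choose

theorem spec (hn : ∀ a ∈ S, -a ∈ S) (hroot : ∀ a ∈ S, IsRoot cs h a) (a : {a // Simp S a}) :
    fS R hn hroot a a.1 = 0 ∧ (∀ b ∈ S, 0 ≤ b → b ≠ a.1 → 0 < fS R hn hroot a b) ∧
      (∃ v j, rep cs h v (sr j) = a.1 ∧ wS R hn hroot a = rfl' cs v j) ∧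
      Rp cs R.nsys (wS R hn hroot a) (kS R hn hroot a) ∧ kS R hn hroot a ∈ T ⊔ (X a.1 ⊔ X (-a.1)) :=
  (exists_data R hn hroot a).choose_spec.choose_spec.choose_spec

theorem cl_eq (hn : ∀ a ∈ S, -a ∈ S) (hroot : ∀ a ∈ S, IsRoot cs h a) (a : {a // Simp S a}) :
    cl S (fS R hn hroot a) = {a.1} := by
  obtain ⟨h1, h2, -⟩ := spec R hn hroot a
  ext b
  constructor
  · rintro ⟨hb, hb0, hfb⟩
    by_contra hne
    exact (h2 b hb hb0 hne).ne' hfb
  · intro hb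
    have hb' : b = a.1 := hb
    rw [hb']
    exact ⟨a.2.1, a.2.2.1, h1⟩

theorem clN_eq (hn : ∀ a ∈ S, -a ∈ S) (hroot : ∀ a ∈ S, IsRoot cs h a) (a : {a // Simp S a}) :
    clN S (fS R hn hroot a) = {-a.1} := by
  have h1 := cl_eq R hn hroot a
  ext b
  constructor
  · rintro ⟨hb, hb0, hfb⟩
    have h2 : -b ∈ cl S (fS R hn hroot a) := ⟨hn b hb, neg_nonneg.2 hb0, by rw [map_neg, hfb, neg_zero]⟩
    rw [h1] at h2
    have h3 : -b = a.1 := h2
    show b = -a.1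
    rw [← h3, neg_neg]
  · intro hb
    have hb' : b = -a.1 := hb
    rw [hb']
    exact ⟨hn _ a.2.1, neg_nonpos.2 a.2.2.1, by rw [map_neg, (spec R hn hroot a).1, neg_zero]⟩

theorem rep_wS (hn : ∀ a ∈ S, -a ∈ S) (hroot : ∀ a ∈ S, IsRoot cs h a) (a : {a // Simp S a}) (x : I → ℤ) :
    rep cs h (wS R hn hroot a) x = x - cpr cs h x a.1 • a.1 := by
  obtain ⟨-, -, ⟨v, j, h1, h2⟩, -⟩ := spec R hn hroot a
  rw [h2, rep_rfl'_eq, h1]

omit [Finite W] in
theorem Sup_singleton (a : I → ℤ) : RGD.Sup X {a} = X a := by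
  apply le_antisymm
  · refine RGD.Sup_le fun z hz => ?_
    rw [Set.mem_singleton_iff] at hz
    rw [hz]
  · exact RGD.le_Sup rfl

theorem apply_zero_iff (hn : ∀ a ∈ S, -a ∈ S) (hroot : ∀ a ∈ S, IsRoot cs h a) (a : {a // Simp S a}) (x : I → ℤ) :
    fS R hn hroot a (rep cs h (wS R hn hroot a) x) = fS R hn hroot a x := by
  rw [rep_wS, map_sub, map_zsmul, (spec R hn hroot a).1, smul_zero, sub_zero]

include hZ hS

/-- the data without generation -/
noncomputable def pre : Pre R S (GS T X S) {a // Simp S a} where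
  f := fS R hn hS.root
  k := kS R hn hS.root
  w := wS R hn hS.root
  root := hS.root
  neg := hn
  fpos := by
    intro i b hb h0
    by_cases e : b = i.1
    · rw [e]; exact (spec R hn hS.root i).1.ge
    · exact ((spec R hn hS.root i).2.1 b hb h0 e).le
  rp := fun i => (spec R hn hS.root i).2.2.2.1
  kG := fun i => (sup_le T_le_GS (sup_le (X_le_GS i.2.1) (X_le_GS (hn _ i.2.1))) :
      T ⊔ (X i.1 ⊔ X (-i.1)) ≤ GS T X S) (spec R hn hS.root i).2.2.2.2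
  wf := fun i x => apply_zero_iff R hn hS.root i x
  wS := by
    intro i a ha
    obtain ⟨-, -, ⟨v, j, h1, h2⟩, -⟩ := spec R hn hS.root i
    rw [h2]
    exact refl_mem hS hn (by rw [h1]; exact i.2.1) ha
  wneg := by
    intro i a ha
    rw [cl_eq R hn hS.root i, Set.mem_singleton_iff] at ha
    rw [ha, rep_wS, cpr_self cs h (hS.root _ i.2.1), two_smul]
    have : i.1 - (i.1 + i.1) = -i.1 := by abel
    rw [this]
    exact neg_nonpos.2 i.2.2.1
  sq := by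
    intro i
    obtain ⟨-, -, ⟨v, j, h1, h2⟩, h3, -⟩ := spec R hn hS.root i
    have h4 := h3.mul h3
    rw [h2, rfl_mul_self] at h4
    exact h4.mem_of_one
  injc := by
    intro i j e
    rw [cl_eq R hn hS.root i, cl_eq R hn hS.root j] at e
    exact Subtype.ext (Set.singleton_injective e)
  cases := by
    intro v g _ _ _ i
    rcases ((hS.root _ i.2.1).act v).pos_or_neg with h1 | h1
    · left
      intro a ha
      rw [cl_eq R hn hS.root i, Set.mem_singleton_iff] at ha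
      rw [ha]; exact h1
    · right
      intro a ha
      rw [cl_eq R hn hS.root i, Set.mem_singleton_iff] at ha
      rw [ha]; exact h1
  dec := by
    intro i u hu _
    obtain ⟨a, ha, c, hc, e⟩ := splitZ R hZ hS.nn htHom (fS R hn hS.root i)
      (fun x hx => RGD.ht_pos (hS.root _ hx.1) hx.2) hu
    refine ⟨a, RGD.Sup_mono (S := {x | x ∈ {x | x ∈ S ∧ 0 ≤ x} ∧ 0 < fS R hn hS.root i x})
      (S' := cp S (fS R hn hS.root i)) (fun x hx => ⟨hx.1.1, hx.1.2, hx.2⟩) ha, c, ?_, ?_, e⟩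
    · refine RGD.Sup_mono (S := {x | x ∈ {x | x ∈ S ∧ 0 ≤ x} ∧ fS R hn hS.root i x ≤ 0})
        (S' := cl S (fS R hn hS.root i)) (fun x hx => ⟨hx.1.1, hx.1.2, le_antisymm hx.2 ?_⟩) hc
      by_cases e : x = i.1
      · rw [e]; exact (spec R hn hS.root i).1.ge
      · exact ((spec R hn hS.root i).2.1 x hx.1.1 hx.1.2 e).le
    · exact Sup_le_GS (S := S) (S' := {x | x ∈ {x | x ∈ S ∧ 0 ≤ x} ∧ fS R hn hS.root i x ≤ 0})
        (fun x hx => hx.1.1) hc
  rk := by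
    intro i y hy _ hy1
    rw [clN_eq R hn hS.root i, Sup_singleton] at hy
    rw [cl_eq R hn hS.root i, Sup_singleton]
    obtain ⟨-, -, ⟨v, j, h1, h2⟩, h3, -⟩ := spec R hn hS.root i
    obtain ⟨g, hg⟩ := exists_rp cs R.nsys v
    have h4 : g⁻¹ * y * g ∈ X (-sr j) := by
      have h5 := R.conj_mem' hg (hS.root _ i.2.1).neg hy
      rwa [map_neg, ← h1, rep_inv_apply] at h5
    have h5 : g⁻¹ * y * g ≠ 1 := fun h6 => hy1 (by
      have h7 := conj_eq_one_iff (a := g⁻¹) (b := y)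
      rw [inv_inv] at h7
      exact h7.1 h6)
    obtain ⟨a, ha, t, ht, b, hb, e⟩ := R.rk1 j _ h4 h5
    have hga : g * a * g⁻¹ ∈ X i.1 := by rw [← h1]; exact R.conj_mem hg (isRoot_sr cs h j) ha
    have hgb : g * b * g⁻¹ ∈ X i.1 := by rw [← h1]; exact R.conj_mem hg (isRoot_sr cs h j) hb
    have hgt : g * t * g⁻¹ ∈ T := (Subgroup.mem_normalizer_iff.1 hg.mem_normalizer t).1 ht
    have h6 : Rp cs R.nsys (rfl' cs v j) (g * n j * g⁻¹) := (hg.mul (rp_simple cs R.nsys j)).mul hg.inv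
    rw [h2] at h3
    have h7 : (g * n j * g⁻¹) * (kS R hn hS.root i)⁻¹ ∈ T := by
      have h8 := h6.mul h3.inv
      rw [mul_inv_cancel] at h8
      exact h8.mem_of_one
    refine ⟨g * a * g⁻¹, hga, X_le_GS i.2.1 hga, (g * t * g⁻¹) * ((g * n j * g⁻¹) * (kS R hn hS.root i)⁻¹),
      mul_mem hgt h7, T_le_GS (mul_mem hgt h7), g * b * g⁻¹, hgb, X_le_GS i.2.1 hgb, ?_⟩
    have h8 : y = g * (g⁻¹ * y * g) * g⁻¹ := by group
    rw [h8, e]
    group
  ne := by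
    intro i
    rw [cl_eq R hn hS.root i, Sup_singleton]
    obtain ⟨⟨x, hx⟩, hx1⟩ := (Subgroup.ne_bot_iff_exists_ne_one).1 (X_ne_bot R (hS.root _ i.2.1))
    exact ⟨x, hx, X_le_GS i.2.1 hx, fun e => hx1 (Subtype.ext e)⟩

/-- the data -/
noncomputable def rel : Rel R S (GS T X S) {a // Simp S a} where
  toPre := pre R hZ hS hn
  gen := by
    set D := pre R hZ hS hn with hD
    set Q : Subgroup Y := (RGD.Sup X (Sp S) ⊓ GS T X S) ⊔ Subgroup.closure (Set.range D.k) ⊔ (T ⊓ GS T X S) with hQ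
    have hTQ : T ≤ Q := fun t ht => Subgroup.mem_sup_right ⟨ht, T_le_GS ht⟩
    have hXQ : ∀ a ∈ Sp S, X a ≤ Q := fun a ha u hu =>
      Subgroup.mem_sup_left (Subgroup.mem_sup_left ⟨RGD.le_Sup ha hu, X_le_GS ha.1 hu⟩)
    -- a longest element
    obtain ⟨⟨v, hv⟩, hmax⟩ := Finite.exists_max
      (fun v : ↥(Subgroup.closure (Set.range D.w)) => (NgS cs h S v.1).ncard)
    have hvS := D.closure_w hv
    have hall : ∀ a ∈ Sp S, rep cs h v a ≤ 0 := by
      by_contra hcon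
      push Not at hcon
      obtain ⟨a, ha, hva⟩ := hcon
      have hva' : 0 ≤ rep cs h v a := by
        rcases ((hS.root a ha.1).act v).pos_or_neg with h1 | h1
        · exact h1
        · exact absurd h1 hva
      have hP : (Sp S).Finite := hS.finite.subset fun a ha => ha.1
      let mu : (I → ℤ) →+ ℤ := -(htHom.comp (rep cs h v).toAddMonoidHom)
      have hmuv : ∀ x, mu x = -ht (rep cs h v x) := fun x => rfl
      obtain ⟨f, -, hf0, ⟨a1, ha1, hfa1⟩, hfneg, hfpar⟩ := exists_expose (ρ := AddMonoidHom.id _) (P := Sp S) hP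
        (lam0 := htHom) (mu := mu) (fun _ => rfl) (fun _ => rfl) (fun x hx => RGD.ht_pos (hS.root _ hx.1) hx.2)
        ⟨a, ha, by
          rw [hmuv]
          have := RGD.ht_pos ((hS.root a ha.1).act v) hva'
          omega⟩
      -- `a1` is the only zero
      have huniq : ∀ b ∈ S, 0 ≤ b → b ≠ a1 → 0 < f b := by
        intro b hb hb0 hne
        rcases (hf0 b ⟨hb, hb0⟩).eq_or_lt with h1 | h1
        · exfalso
          apply hne
          have h2 := hfpar b ⟨hb, hb0⟩ a1 ha1 h1.symm hfa1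
          have hb1 : 0 < ht b := RGD.ht_pos (hS.root b hb) hb0
          have ha2 : 0 < ht a1 := RGD.ht_pos (hS.root a1 ha1.1) ha1.2
          refine eq_of_cross (hS.root b hb) (hS.root a1 ha1.1) ha2 hb1 (funext fun k => ?_)
          have h3 := h2 (Pi.evalAddMonoidHom (fun _ => ℤ) k) (fun _ => rfl)
          simp only [Pi.evalAddMonoidHom_apply, htHom_apply] at h3
          rw [Pi.smul_apply, Pi.smul_apply, smul_eq_mul, smul_eq_mul]
          linarith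
        · exact h1
      have hsimp : Simp S a1 := ⟨ha1.1, ha1.2, f, hfa1, huniq⟩
      have hva1 : 0 ≤ rep cs h v a1 := by
        have h1 := hfneg a1 ha1 hfa1
        rw [hmuv] at h1
        rcases ((hS.root a1 ha1.1).act v).pos_or_neg with h2 | h2
        · exact h2
        · exfalso
          have h3 := RGD.ht_pos ((hS.root a1 ha1.1).act v).neg (neg_nonneg.2 h2)
          have h4 : ht (-rep cs h v a1) = - ht (rep cs h v a1) := by unfold ht; simp
          omega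
      have h1 := D.lt_ncard ⟨a1, hsimp⟩ v (by
        intro b hb
        have h2 : cl S (D.f ⟨a1, hsimp⟩) = {a1} := cl_eq R hn hS.root ⟨a1, hsimp⟩
        rw [h2, Set.mem_singleton_iff] at hb
        rw [hb]; exact hva1)
      have h2 := hmax ⟨v * D.w ⟨a1, hsimp⟩, mul_mem hv (Subgroup.subset_closure ⟨_, rfl⟩)⟩
      simp only at h2
      omega
    -- a representative in `Q`
    have hrep : ∀ v ∈ Subgroup.closure (Set.range D.w), ∃ g ∈ Q, Rp cs R.nsys v g := by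
      intro v hv
      induction hv using Subgroup.closure_induction with
      | mem x hx =>
        obtain ⟨i, rfl⟩ := hx
        exact ⟨D.k i, Subgroup.mem_sup_left (Subgroup.mem_sup_right (Subgroup.subset_closure ⟨i, rfl⟩)), D.rp i⟩
      | one => exact ⟨1, one_mem _, rp_one⟩
      | mul x y _ _ h1 h2 =>
        obtain ⟨k, hk, hk'⟩ := h1
        obtain ⟨l, hl, hl'⟩ := h2
        exact ⟨k * l, mul_mem hk hl, hk'.mul hl'⟩
      | inv x _ h1 =>
        obtain ⟨k, hk, hk'⟩ := h1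
        exact ⟨k⁻¹, inv_mem hk, hk'.inv⟩
    obtain ⟨g, hgQ, hg⟩ := hrep v hv
    refine sup_le (RGD.Sup_le fun a ha => ?_) hTQ
    rcases (hS.root a ha).pos_or_neg with h0 | h0
    · exact hXQ a ⟨ha, h0⟩
    · -- `v⁻¹ a` is positive
      have h1 : rep cs h v⁻¹ a ∈ S := D.closure_w (inv_mem hv) a ha
      have h2 : 0 ≤ rep cs h v⁻¹ a := by
        rcases (hS.root _ h1).pos_or_neg with h3 | h3
        · exact h3
        · exfalso
          have h4 := hall (-rep cs h v⁻¹ a) ⟨hn _ h1, neg_nonneg.2 h3⟩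
          rw [map_neg, rep_apply_inv, neg_nonpos] at h4
          exact (hS.root a ha).not_pos_neg h4 h0
      intro u hu
      have h3 : g⁻¹ * u * g ∈ X (rep cs h v⁻¹ a) := R.conj_mem' hg (hS.root a ha) hu
      have h4 : u = g * (g⁻¹ * u * g) * g⁻¹ := by group
      rw [h4]
      exact mul_mem (mul_mem hgQ (hXQ _ ⟨h1, h2⟩ h3)) (inv_mem hgQ)

theorem closure_w_le : Subgroup.closure (Set.range (rel R hZ hS hn).w) ≤ WS cs h S := by
  rw [Subgroup.closure_le]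
  rintro _ ⟨i, rfl⟩
  obtain ⟨-, -, ⟨v, j, h1, h2⟩, -⟩ := spec R hn hS.root i
  exact Subgroup.subset_closure ⟨v, j, by rw [h1]; exact i.2.1, h2⟩

include hn R

/-- **An element of `WS` preserving `S⁺` is trivial.** -/
theorem eq_one {v : W} (hv : v ∈ WS cs h S) (hp : ∀ a ∈ Sp S, 0 ≤ rep cs h v a) : v = 1 := by
  obtain ⟨k, hk, hkv⟩ := exists_rp_WS R hn hv
  set D := rel R hZ hS hn with hD
  have hvS := WS_mem hS hn hv
  have hinv := inv_Sp hS hn hvS hp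
  have h1 : (⟨k, hk⟩ : ↥(GS T X S)) ∈ D.bn.B := by
    refine Cfsg.Agent.S0313.mem_of_conj_borel_le D.bn D.bn.B le_rfl _ fun b hb => ?_
    obtain ⟨u, hu, huG, t, ht, htG, e⟩ := D.mem_bn_B.1 hb
    refine D.mem_bn_B.2 ⟨k⁻¹ * u * k, ?_, mul_mem (mul_mem (inv_mem hk) huG) hk, k⁻¹ * t * k, ?_,
      mul_mem (mul_mem (inv_mem hk) htG) hk, ?_⟩
    · exact conj_mem_Sup' R hkv (S := Sp S) (S' := Sp S) (fun a ha => hS.root a ha.1) hinv hu
    · have h2 := (Subgroup.mem_normalizer_iff.1 (inv_mem hkv.mem_normalizer) t).1 ht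
      rwa [inv_inv] at h2
    · push_cast
      rw [e]; group
  exact R.eq_one_of_mem_B hkv (D.bn_B_le h1)

/-- **The normal form of the elements of `GS`.** -/
theorem exists_form {g : Y} (hg : g ∈ GS T X S) : ∃ u ∈ RGD.Sup X (Sp S), ∃ v ∈ WS cs h S, ∃ k,
    Rp cs R.nsys v k ∧ ∃ x ∈ RGD.Sup X (NgS cs h S v), g = u * k * x := by
  obtain ⟨u, hu, v, hv, k, hk, -, x, hx, -, -, rfl⟩ := (rel R hZ hS hn).bruhat hg
  have hv' := closure_w_le R hZ hS hn hv
  obtain ⟨a, ha, c, hc, rfl⟩ := splitZ R hZ hS.nn htHom (htHom.comp (rep cs h v).toAddMonoidHom)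
    (fun x hx => RGD.ht_pos (hS.root _ hx.1) hx.2) hx
  have hval : ∀ x, (htHom.comp (rep cs h v).toAddMonoidHom) x = ht (rep cs h v x) := fun _ => rfl
  have h1 : k * a * k⁻¹ ∈ RGD.Sup X (Sp S) := by
    refine conj_mem_Sup R hk (S' := Sp S) (fun x hx => hS.root x hx.1.1) (fun x hx => ?_) ha
    refine ⟨WS_mem hS hn hv' x hx.1.1, ?_⟩
    rcases ((hS.root x hx.1.1).act v).pos_or_neg with h2 | h2
    · exact h2
    · exfalso
      have h3 := RGD.ht_pos ((hS.root x hx.1.1).act v).neg (neg_nonneg.2 h2)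
      have h4 : ht (-rep cs h v x) = - ht (rep cs h v x) := by unfold ht; simp
      have h5 := hx.2
      rw [hval] at h5
      omega
  refine ⟨u * (k * a * k⁻¹), mul_mem hu h1, v, hv', k, hk, c, ?_, by group⟩
  refine RGD.Sup_mono (S := {x | x ∈ {x | x ∈ S ∧ 0 ≤ x} ∧ (htHom.comp (rep cs h v).toAddMonoidHom) x ≤ 0})
    (S' := NgS cs h S v) (fun x hx => ⟨hx.1, ?_⟩) hc
  rcases ((hS.root x hx.1.1).act v).pos_or_neg with h2 | h2
  · exfalso
    have h3 := RGD.ht_pos ((hS.root x hx.1.1).act v) h2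
    have h5 := hx.2
    rw [hval] at h5
    omega
  · exact h2

end Main

end Cfsg.Agent.BpExc.SubBN

end

-- merged: Cfsg.Agent.BpExc.FixRel
section

/-!
# Fixed points of a frame automorphism: relative root data (S1332-EXC (h), helper58)

`R : RGD cs h p T n X`, `S` closed symmetric, `τ : MulAut Y` with `τ T ≤ T`, `τ (X a) ≤ X (ρ a)`, `ρ S⁺ ⊆ S⁺`.
`G = GS ⊓ C(τ)`. If every wall has a nontrivial fixed element, then `G` has relative root data (`rel`), hence the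
(B,N)-pair `(U_S T)^τ`, `N^τ`.
-/

set_option autoImplicit false
set_option linter.unusedSectionVars false

namespace Cfsg.Agent.BpExc.FixRel

open CoxeterSystem Cfsg.Agent.ChevalleyStructure.CoxeterGeom Cfsg.Agent.Tits.Roots Cfsg.Agent.Tits.Core
  Cfsg.Agent.Tits.Exchange Cfsg.Agent.Nodes.Reps Cfsg.Agent.Nodes.BNOf Cfsg.Agent.Nodes.StabComb
  Cfsg.Agent.Nodes.Comb Cfsg.Agent.Nodes.Bruhat Cfsg.Agent.Nodes.OppDec Cfsg.Agent.Nodes.Slope
  Cfsg.Agent.Nodes.NormalForm Cfsg.Agent.Nodes.SubComb Cfsg.Agent.Nodes.Coroot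
  Cfsg.Agent.ChevalleyStructure.AbstractBN Cfsg.Agent.BpExc.Zc Cfsg.Agent.BpExc.RelBN Cfsg.Agent.BpExc.SubBN
open scoped commutatorElement

variable {I W Y : Type*} [Fintype I] [DecidableEq I] [Group W] [Group Y] {M : CoxeterMatrix I}
  {cs : CoxeterSystem M W} {A : I → I → ℤ} {h : IsCartan M A} {p : ℕ} {T : Subgroup Y} {n : I → Y}
  {X : (I → ℤ) → Subgroup Y}

/-! ### uniqueness -/

section Unique

variable (R : RGD cs h p T n X) [Finite W]

include R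

/-- global uniqueness of the normal form -/
theorem nf_unique {v v' : W} {u u' k k' x x' : Y} (hu : u ∈ RGD.Sup X (RGD.Pos cs h))
    (hu' : u' ∈ RGD.Sup X (RGD.Pos cs h)) (hk : Rp cs R.nsys v k) (hk' : Rp cs R.nsys v' k')
    (hx : x ∈ RGD.Sup X (NW cs h v)) (hx' : x' ∈ RGD.Sup X (NW cs h v')) (e : u * k * x = u' * k' * x') :
    v = v' ∧ u = u' ∧ k = k' ∧ x = x' := by
  have hB : ∀ {w : W} {y : Y}, y ∈ RGD.Sup X (NW cs h w) → y ∈ RGD.B cs h T X := fun hy =>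
    RGD.U_le_B (RGD.Sup_mono (S' := RGD.Pos cs h) (fun a ha => ⟨ha.1, ha.2.1⟩) hy)
  have h1 : v = v' := Cell.unique R (g := u * k * x) ⟨u, RGD.U_le_B hu, k, hk, x, hB hx, rfl⟩
    ⟨u', RGD.U_le_B hu', k', hk', x', hB hx', e⟩
  subst h1
  exact ⟨rfl, normal_form_unique R hu hu' hk hk' hx hx' e⟩

theorem rp_unique {v v' : W} {g : Y} (h1 : Rp cs R.nsys v g) (h2 : Rp cs R.nsys v' g) : v = v' := by
  have h3 := h1.inv.mul h2
  rw [inv_mul_cancel] at h3
  exact inv_mul_eq_one.1 (R.eq_one_of_mem_B h3 (one_mem _))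

end Unique

/-- A frame automorphism. -/
structure Fr (R : RGD cs h p T n X) (S : Set (I → ℤ)) (τ : MulAut Y) (ρ : (I → ℤ) ≃+ (I → ℤ)) : Prop where
  tor : ∀ t ∈ T, τ t ∈ T
  root : ∀ a, IsRoot cs h a → IsRoot cs h (ρ a)
  map : ∀ a, IsRoot cs h a → ∀ u ∈ X a, τ u ∈ X (ρ a)
  rp : ∀ v g, Rp cs R.nsys v g → ∃ v', Rp cs R.nsys v' (τ g)
  mem : ∀ a ∈ S, ρ a ∈ S
  pos : ∀ a ∈ S, 0 ≤ a → 0 ≤ ρ a

section Frame

variable {R : RGD cs h p T n X} {S : Set (I → ℤ)} {τ : MulAut Y} {ρ : (I → ℤ) ≃+ (I → ℤ)}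

theorem Fr.map_Sup (F : Fr R S τ ρ) {S' S'' : Set (I → ℤ)} (hS' : ∀ a ∈ S', IsRoot cs h a)
    (hm : ∀ a ∈ S', ρ a ∈ S'') {u : Y} (hu : u ∈ RGD.Sup X S') : τ u ∈ RGD.Sup X S'' := by
  have h1 : RGD.Sup X S' ≤ (RGD.Sup X S'').comap τ.toMonoidHom :=
    RGD.Sup_le fun a ha u hu => RGD.le_Sup (hm a ha) (F.map a (hS' a ha) u hu)
  exact h1 hu

theorem Fr.neg (F : Fr R S τ ρ) (hn : ∀ a ∈ S, -a ∈ S) {a : I → ℤ} (ha : a ∈ S) (h0 : a ≤ 0) : ρ a ≤ 0 := by
  have h1 := F.pos (-a) (hn a ha) (neg_nonneg.2 h0)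
  rw [map_neg] at h1
  exact neg_nonneg.1 h1

variable [Finite W]

/-- the action of `τ` on representatives -/
theorem Fr.comm_root (F : Fr R S τ ρ) {v v' : W} {g : Y} (hg : Rp cs R.nsys v g) (hg' : Rp cs R.nsys v' (τ g))
    {a : I → ℤ} (ha : IsRoot cs h a) : rep cs h v' (ρ a) = ρ (rep cs h v a) := by
  by_contra hne
  obtain ⟨⟨u, hu⟩, hu1⟩ := (Subgroup.ne_bot_iff_exists_ne_one).1 (X_ne_bot R ha)
  have hu1' : u ≠ 1 := fun e => hu1 (Subtype.ext e)
  have h1 : τ (g * u * g⁻¹) ∈ X (ρ (rep cs h v a)) := F.map _ (ha.act v) _ (R.conj_mem hg ha hu)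
  have h2 : τ (g * u * g⁻¹) ∈ X (rep cs h v' (ρ a)) := by
    rw [map_mul, map_mul, map_inv]
    exact R.conj_mem hg' (F.root a ha) (F.map a ha u hu)
  have h3 : τ (g * u * g⁻¹) ∈ X (rep cs h v' (ρ a)) ⊓ X (ρ (rep cs h v a)) := ⟨h2, h1⟩
  rw [X_inf_X R ((F.root a ha).act v') (F.root _ (ha.act v)) hne, Subgroup.mem_bot, map_eq_one_iff τ τ.injective,
    conj_eq_one_iff] at h3
  exact hu1' h3

omit [Finite W] in
theorem ext_sr {f g : (I → ℤ) →+ (I → ℤ)} (he : ∀ i, f (sr i) = g (sr i)) (x : I → ℤ) : f x = g x := by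
  have e : x = ∑ k, x k • sr k := by
    funext j
    simp [Finset.sum_apply, sr, Pi.single_apply]
  rw [e, map_sum, map_sum]
  exact Finset.sum_congr rfl fun k _ => by rw [map_zsmul, map_zsmul, he]

/-- a fixed representative commutes with `ρ` -/
theorem Fr.commute (F : Fr R S τ ρ) {v : W} {g : Y} (hg : Rp cs R.nsys v g) (hτ : τ g = g) (x : I → ℤ) :
    rep cs h v (ρ x) = ρ (rep cs h v x) := by
  refine ext_sr (f := (rep cs h v).toAddMonoidHom.comp ρ.toAddMonoidHom)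
    (g := ρ.toAddMonoidHom.comp (rep cs h v).toAddMonoidHom) (fun i => ?_) x
  exact F.comm_root hg (by rw [hτ]; exact hg) (isRoot_sr cs h i)

/-- **The normal form of a fixed element of `GS`.** -/
theorem Fr.fix_form (F : Fr R S τ ρ) (hZ : CommZ cs h X) (hn : ∀ a ∈ S, -a ∈ S) {S' : Set (I → ℤ)}
    (hS' : ZClosed cs h S') (hn' : ∀ a ∈ S', -a ∈ S') (hSS : S' ⊆ S) (hρ : ∀ a ∈ S', ρ a ∈ S') {g : Y}
    (hg : g ∈ GS T X S') (hτ : τ g = g) : ∃ u ∈ RGD.Sup X (Sp S'), τ u = u ∧ ∃ v ∈ WS cs h S', ∃ k,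
    Rp cs R.nsys v k ∧ τ k = k ∧ k ∈ GS T X S' ∧ ∃ x ∈ RGD.Sup X (NgS cs h S' v), τ x = x ∧ g = u * k * x := by
  obtain ⟨u, hu, v, hv, k, hk, x, hx, rfl⟩ := exists_form R hZ hS' hn' hg
  obtain ⟨v', hv'⟩ := F.rp v k hk
  have hSp : ∀ a ∈ Sp S', a ∈ RGD.Pos cs h := fun a ha => ⟨hS'.root a ha.1, ha.2⟩
  have hu1 : u ∈ RGD.Sup X (RGD.Pos cs h) := RGD.Sup_mono hSp hu
  have hu2 : τ u ∈ RGD.Sup X (RGD.Pos cs h) := by
    refine F.map_Sup (S' := Sp S') (fun a ha => hS'.root a ha.1) (fun a ha => ?_) hu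
    exact hSp _ ⟨hρ a ha.1, F.pos a (hSS ha.1) ha.2⟩
  have hx1 : x ∈ RGD.Sup X (NW cs h v) :=
    RGD.Sup_mono (S := NgS cs h S' v) (S' := NW cs h v) (fun a ha => ⟨hS'.root a ha.1.1, ha.1.2, ha.2⟩) hx
  have hx2 : τ x ∈ RGD.Sup X (NW cs h v') := by
    refine F.map_Sup (S' := NgS cs h S' v) (fun a ha => hS'.root a ha.1.1) (fun a ha => ?_) hx
    refine ⟨hS'.root _ (hρ a ha.1.1), F.pos a (hSS ha.1.1) ha.1.2, ?_⟩
    rw [F.comm_root hk hv' (hS'.root a ha.1.1)]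
    exact F.neg hn (hSS (WS_mem hS' hn' hv a ha.1.1)) ha.2
  have e : u * k * x = τ u * τ k * τ x := by rw [← map_mul, ← map_mul]; exact hτ.symm
  obtain ⟨-, h1, h2, h3⟩ := nf_unique R hu1 hu2 hk hv' hx1 hx2 e
  refine ⟨u, hu, h1.symm, v, hv, k, hk, h2.symm, ?_, x, hx, h3.symm, rfl⟩
  have h4 : k = u⁻¹ * (u * k * x) * x⁻¹ := by group
  rw [h4]
  exact mul_mem (mul_mem (inv_mem (Sup_le_GS (fun a ha => ha.1) hu)) hg)
    (inv_mem (Sup_le_GS (S' := NgS cs h S' v) (fun a ha => ha.1.1) hx))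

/-! ### the invariant functional -/

/-- `ρ` as an endomorphism -/
def En (ρ : (I → ℤ) ≃+ (I → ℤ)) : AddMonoid.End (I → ℤ) := ρ.toAddMonoidHom

omit [Finite W] in
theorem iter_apply (ρ : (I → ℤ) ≃+ (I → ℤ)) (m : ℕ) (x : I → ℤ) :
    (En ρ ^ m) x = (⇑ρ)^[m] x := by
  induction m generalizing x with
  | zero => rfl
  | succ m ih =>
    rw [pow_succ, Function.iterate_succ_apply]
    exact ih (ρ x)

theorem Fr.exists_order (F : Fr R S τ ρ) : ∃ m : ℕ, 0 < m ∧ ∀ x, (⇑ρ)^[m] x = x := by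
  classical
  have hfin : Finite {x // IsRoot cs h x} := (RGD.finite_roots (cs := cs) (h := h)).to_subtype
  let e0 : {x // IsRoot cs h x} → {x // IsRoot cs h x} := fun x => ⟨ρ x.1, F.root x.1 x.2⟩
  have hinj : Function.Injective e0 := fun x y hxy => Subtype.ext (ρ.injective (congrArg Subtype.val hxy))
  let e : Equiv.Perm {x // IsRoot cs h x} := Equiv.ofBijective e0 (Finite.injective_iff_bijective.1 hinj)
  refine ⟨orderOf e, orderOf_pos e, fun x => ?_⟩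
  have h1 : ∀ (m : ℕ) (x : {x // IsRoot cs h x}), ((e ^ m) x).1 = (⇑ρ)^[m] x.1 := by
    intro m
    induction m with
    | zero => intro x; rfl
    | succ m ih =>
      intro x
      rw [pow_succ, Equiv.Perm.mul_apply, ih, Function.iterate_succ_apply]
      rfl
  rw [← iter_apply]
  refine (ext_sr (f := En ρ ^ orderOf e) (g := AddMonoidHom.id _)
    (fun i => ?_) x)
  have h2 := h1 (orderOf e) ⟨sr i, isRoot_sr cs h i⟩
  rw [pow_orderOf_eq_one] at h2
  exact (iter_apply ρ (orderOf e) (sr i)).trans h2.symm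

/-- an invariant functional positive on `S⁺` -/
theorem Fr.exists_lam (F : Fr R S τ ρ) (hS : ZClosed cs h S) :
    ∃ lam ∈ Iv ρ.toAddMonoidHom, ∀ a ∈ Sp S, 0 < lam a := by
  obtain ⟨m, hm, hρm⟩ := F.exists_order
  let lam : (I → ℤ) →+ ℤ := ∑ j ∈ Finset.range m,
    htHom.comp (En ρ ^ j)
  have hlam : ∀ x, lam x = ∑ j ∈ Finset.range m, ht ((⇑ρ)^[j] x) := by
    intro x
    rw [AddMonoidHom.finsetSum_apply]
    refine Finset.sum_congr rfl fun j _ => ?_
    exact congrArg ht (iter_apply ρ j x)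
  refine ⟨lam, fun x => ?_, fun a ha => ?_⟩
  · show lam (ρ x) = lam x
    rw [hlam, hlam]
    have h1 : ∀ j, ht ((⇑ρ)^[j] (ρ x)) = ht ((⇑ρ)^[j + 1] x) := fun j => by rw [Function.iterate_succ_apply]
    rw [Finset.sum_congr rfl fun j _ => h1 j]
    have h2 := Finset.sum_range_succ (fun j => ht ((⇑ρ)^[j] x)) m
    have h3 := Finset.sum_range_succ' (fun j => ht ((⇑ρ)^[j] x)) m
    rw [hρm] at h2
    rw [Function.iterate_zero_apply] at h3
    omega
  · rw [hlam]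
    have h1 : ∀ j, (⇑ρ)^[j] a ∈ Sp S := by
      intro j
      induction j with
      | zero => exact ha
      | succ j ih =>
        rw [Function.iterate_succ_apply']
        exact ⟨F.mem _ ih.1, F.pos _ ih.1 ih.2⟩
    exact Finset.sum_pos (fun j _ => RGD.ht_pos (hS.root _ (h1 j).1) (h1 j).2) ⟨0, Finset.mem_range.2 hm⟩

/-! ### walls -/

/-- The walls: the zero sets in `S⁺` of invariant functionals `≥ 0` on `S⁺` that are nonempty and `ρ`-parallel. -/
def Wall (S : Set (I → ℤ)) (ρ : (I → ℤ) ≃+ (I → ℤ)) (lam : (I → ℤ) →+ ℤ) (c : Set (I → ℤ)) : Prop :=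
  c.Nonempty ∧ ∃ f ∈ Iv ρ.toAddMonoidHom, (∀ a ∈ Sp S, 0 ≤ f a) ∧ c = cl S f ∧
    ∀ a ∈ c, ∀ b ∈ c, ∀ g ∈ Iv ρ.toAddMonoidHom, g a * lam b = g b * lam a

variable {lam : (I → ℤ) →+ ℤ}

omit [Finite W] in
theorem nonneg_of_lam (hS : ZClosed cs h S) (hn : ∀ a ∈ S, -a ∈ S) (hpos : ∀ a ∈ Sp S, 0 < lam a) {a : I → ℤ}
    (ha : a ∈ S) (h0 : 0 ≤ lam a) : 0 ≤ a := by
  rcases (hS.root a ha).pos_or_neg with h1 | h1
  · exact h1
  · exfalso
    have h2 := hpos (-a) ⟨hn a ha, neg_nonneg.2 h1⟩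
    rw [map_neg] at h2
    linarith

omit [Finite W] in
theorem nonpos_of_lam (hS : ZClosed cs h S) (hpos : ∀ a ∈ Sp S, 0 < lam a) {a : I → ℤ}
    (ha : a ∈ S) (h0 : lam a ≤ 0) : a ≤ 0 := by
  rcases (hS.root a ha).pos_or_neg with h1 | h1
  · exfalso
    have h2 := hpos a ⟨ha, h1⟩
    linarith
  · exact h1

omit [Finite W] in
/-- an element commuting with `ρ` has a constant sign on a wall -/
theorem sign (hS : ZClosed cs h S) (hn : ∀ a ∈ S, -a ∈ S) (hlam : lam ∈ Iv ρ.toAddMonoidHom)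
    (hpos : ∀ a ∈ Sp S, 0 < lam a) {c : Set (I → ℤ)} (hc : Wall S ρ lam c) {v : W}
    (hcomm : ∀ x, rep cs h v (ρ x) = ρ (rep cs h v x)) (hv : ∀ a ∈ S, rep cs h v a ∈ S) :
    (∀ a ∈ c, 0 ≤ rep cs h v a) ∨ (∀ a ∈ c, rep cs h v a ≤ 0) := by
  obtain ⟨⟨a0, ha0⟩, f, hf, hf0, rfl, hpar⟩ := hc
  have hg : lam.comp (rep cs h v).toAddMonoidHom ∈ Iv ρ.toAddMonoidHom := by
    intro x
    show lam (rep cs h v (ρ x)) = lam (rep cs h v x)
    rw [hcomm]
    exact hlam (rep cs h v x)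
  have hgv : ∀ x, (lam.comp (rep cs h v).toAddMonoidHom) x = lam (rep cs h v x) := fun _ => rfl
  have hl0 := hpos a0 ⟨ha0.1, ha0.2.1⟩
  rcases ((hS.root a0 ha0.1).act v).pos_or_neg with h1 | h1
  · left
    intro b hb
    have h2 := hpar a0 ha0 b hb _ hg
    rw [hgv, hgv] at h2
    have h3 := hpos _ ⟨hv a0 ha0.1, h1⟩
    have h4 := hpos b ⟨hb.1, hb.2.1⟩
    refine nonneg_of_lam hS hn hpos (hv b hb.1) ?_
    have h5 : 0 < lam (rep cs h v b) * lam a0 := by rw [← h2]; exact mul_pos h3 h4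
    exact ((pos_iff_pos_of_mul_pos h5).2 hl0).le
  · right
    intro b hb
    have h2 := hpar a0 ha0 b hb _ hg
    rw [hgv, hgv] at h2
    have h3 := hpos _ ⟨hn _ (hv a0 ha0.1), neg_nonneg.2 h1⟩
    rw [map_neg] at h3
    have h4 := hpos b ⟨hb.1, hb.2.1⟩
    refine nonpos_of_lam hS hpos (hv b hb.1) ?_
    by_contra h5
    push Not at h5
    have h6 : 0 < lam (rep cs h v b) * lam a0 := mul_pos h5 hl0
    have h7 : lam (rep cs h v a0) * lam b < 0 := mul_neg_of_neg_of_pos (by linarith) h4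
    linarith

/-- **The relative reflection of a wall.** -/
theorem Fr.exists_refl (F : Fr R S τ ρ) (hZ : CommZ cs h X) (hS : ZClosed cs h S) (hn : ∀ a ∈ S, -a ∈ S)
    (hlam : lam ∈ Iv ρ.toAddMonoidHom) (hpos : ∀ a ∈ Sp S, 0 < lam a) {f : (I → ℤ) →+ ℤ}
    (hf : f ∈ Iv ρ.toAddMonoidHom) (hc : Wall S ρ lam (cl S f))
    (hfix : ∃ y ∈ RGD.Sup X (clN S f), τ y = y ∧ y ≠ 1) :
    ∃ v ∈ WS cs h {a | a ∈ S ∧ f a = 0}, ∃ k ∈ GS T X S, Rp cs R.nsys v k ∧ τ k = k ∧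
      (∀ a ∈ cl S f, rep cs h v a ≤ 0) ∧ v * v = 1 ∧
      ∀ y ∈ RGD.Sup X (clN S f), τ y = y → y ≠ 1 → ∃ u ∈ RGD.Sup X (cl S f), τ u = u ∧ ∃ t ∈ T, τ t = t ∧
        ∃ x ∈ RGD.Sup X (cl S f), τ x = x ∧ y = u * t * k * x := by
  set S' : Set (I → ℤ) := {a | a ∈ S ∧ f a = 0} with hS'
  have hS'c : ZClosed cs h S' := hS.zero f
  have hn' : ∀ a ∈ S', -a ∈ S' := fun a ha => ⟨hn a ha.1, by rw [map_neg, ha.2, neg_zero]⟩
  have hρ' : ∀ a ∈ S', ρ a ∈ S' := fun a ha => ⟨F.mem a ha.1, by rw [hf a |> fun e => (e : f (ρ a) = f a), ha.2]⟩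
  have hSp : Sp S' = cl S f := by
    ext a
    exact ⟨fun ha => ⟨ha.1.1, ha.2, ha.1.2⟩, fun ha => ⟨⟨ha.1, ha.2.2⟩, ha.2.1⟩⟩
  -- the form of the nontrivial fixed elements
  have key : ∀ y ∈ RGD.Sup X (clN S f), τ y = y → y ≠ 1 → ∃ u ∈ RGD.Sup X (cl S f), τ u = u ∧
      ∃ v ∈ WS cs h S', ∃ k ∈ GS T X S', Rp cs R.nsys v k ∧ τ k = k ∧ (∀ a ∈ cl S f, rep cs h v a ≤ 0) ∧
      ∃ x ∈ RGD.Sup X (cl S f), τ x = x ∧ y = u * k * x := by
    intro y hy hτ hy1
    have hyG : y ∈ GS T X S' := Sup_le_GS (S := S') (S' := clN S f) (fun a ha => ⟨ha.1, ha.2.2⟩) hy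
    obtain ⟨u, hu, hτu, v, hv, k, hk, hτk, hkG, x, hx, hτx, rfl⟩ :=
      F.fix_form hZ hn hS'c hn' (fun a ha => ha.1) hρ' hyG hτ
    rw [hSp] at hu
    have hx' : x ∈ RGD.Sup X (cl S f) :=
      RGD.Sup_mono (S := NgS cs h S' v) (S' := cl S f) (fun a ha => by rw [← hSp]; exact ha.1) hx
    refine ⟨u, hu, hτu, v, hv, k, hkG, hk, hτk, ?_, x, hx', hτx, rfl⟩
    rcases sign hS hn hlam hpos hc (F.commute hk hτk)
      (WS_mem hS hn (WS_mono (fun a ha => ha.1) hv)) with h1 | h1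
    · exfalso
      have hv1 : v = 1 := eq_one R hZ hS'c hn' hv (by rw [hSp]; exact h1)
      subst hv1
      have hx1 : x = 1 := by
        have h2 : NgS cs h S' (1 : W) = ∅ := by
          ext a
          simp only [Set.mem_empty_iff_false, iff_false]
          rintro ⟨ha, h3⟩
          rw [map_one, Module.End.one_apply] at h3
          exact (hS'c.root a ha.1).not_pos_neg ha.2 h3
        rw [h2, Sup_empty, Subgroup.mem_bot] at hx
        exact hx
      subst hx1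
      apply hy1
      refine eq_one_of_mem_UN_of_mem_B R (RGD.Sup_mono (S := clN S f) (S' := Neg cs h)
        (fun a ha => ⟨hS.root a ha.1, ha.2.1⟩) hy) ?_
      rw [mul_one]
      exact mul_mem (RGD.U_le_B (RGD.Sup_mono (S := cl S f) (S' := RGD.Pos cs h)
        (fun a ha => ⟨hS.root a ha.1, ha.2.1⟩) hu)) (RGD.T_le_B hk.mem_of_one)
    · exact h1
  -- two such elements of `WS` are equal
  have huniq : ∀ v ∈ WS cs h S', ∀ w ∈ WS cs h S', (∀ a ∈ cl S f, rep cs h v a ≤ 0) →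
      (∀ a ∈ cl S f, rep cs h w a ≤ 0) → v⁻¹ * w = 1 := by
    intro v hv w hw h1 h2
    refine eq_one R hZ hS'c hn' (mul_mem (inv_mem hv) hw) ?_
    rw [hSp]
    intro a ha
    rw [rep_mul_apply]
    have ha' : a ∈ S' := ⟨ha.1, ha.2.2⟩
    have h3 : rep cs h w a ∈ S' := WS_mem hS'c hn' hw a ha'
    have h4 : rep cs h v⁻¹ (rep cs h w a) ∈ S' := WS_mem hS'c hn' (inv_mem hv) _ h3
    rcases (hS'c.root _ h4).pos_or_neg with h5 | h5
    · exact h5
    · exfalso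
      have h6 : -rep cs h v⁻¹ (rep cs h w a) ∈ cl S f := by
        rw [← hSp]; exact ⟨hn' _ h4, neg_nonneg.2 h5⟩
      have h7 := h1 _ h6
      rw [map_neg, rep_apply_inv, neg_nonpos] at h7
      exact (hS'c.root _ h3).not_pos_neg h7 (h2 a ha)
  obtain ⟨y0, hy0, hτ0, hy01⟩ := hfix
  obtain ⟨-, -, -, v, hv, k, hkG, hk, hτk, hvneg, -⟩ := key y0 hy0 hτ0 hy01
  have hvneg' : ∀ a ∈ cl S f, rep cs h v⁻¹ a ≤ 0 := by
    intro a ha
    have ha' : a ∈ S' := ⟨ha.1, ha.2.2⟩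
    have h4 : rep cs h v⁻¹ a ∈ S' := WS_mem hS'c hn' (inv_mem hv) _ ha'
    rcases (hS'c.root _ h4).pos_or_neg with h5 | h5
    · exfalso
      have h6 : rep cs h v⁻¹ a ∈ cl S f := by
        rw [← hSp]; exact ⟨h4, h5⟩
      have h7 := hvneg _ h6
      rw [rep_apply_inv] at h7
      exact (hS'c.root _ ha').not_pos_neg ha.2.1 h7
    · exact h5
  have hGS : GS T X S' ≤ GS T X S := sup_le (Sup_le_GS fun a ha => ha.1) T_le_GS
  refine ⟨v, hv, k, hGS hkG, hk, hτk, hvneg, ?_, ?_⟩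
  · have := huniq v⁻¹ (inv_mem hv) v hv hvneg' hvneg
    rwa [inv_inv] at this
  · intro y hy hτ hy1
    obtain ⟨u, hu, hτu, v', hv', k', -, hk', hτk', hvneg2, x, hx, hτx, rfl⟩ := key y hy hτ hy1
    have h1 := huniq v hv v' hv' hvneg hvneg2
    have h2 : v' = v := (inv_mul_eq_one.1 h1).symm
    subst h2
    have h3 : k' * k⁻¹ ∈ T := by
      have := hk'.mul hk.inv
      rw [mul_inv_cancel] at this
      exact this.mem_of_one
    refine ⟨u, hu, hτu, k' * k⁻¹, h3, by rw [map_mul, map_inv, hτk, hτk'], x, hx, hτx, by group⟩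

/-! ### the relative root data of the fixed points -/

/-- The fixed points of `τ` in `GS`. -/
def Gf (T : Subgroup Y) (X : (I → ℤ) → Subgroup Y) (S : Set (I → ℤ)) (τ : MulAut Y) : Subgroup Y :=
  GS T X S ⊓ Cfsg.fixedSubgroup τ

omit [Finite W] in
theorem mem_Gf {g : Y} : g ∈ Gf T X S τ ↔ g ∈ GS T X S ∧ τ g = g := Iff.rfl

/-- all walls have nontrivial fixed elements -/
def Fx (X : (I → ℤ) → Subgroup Y) (S : Set (I → ℤ)) (τ : MulAut Y) (ρ : (I → ℤ) ≃+ (I → ℤ)) (lam : (I → ℤ) →+ ℤ) :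
    Prop := ∀ c, Wall S ρ lam c → ∃ y ∈ RGD.Sup X {a | -a ∈ c}, τ y = y ∧ y ≠ 1

section Data

variable (F : Fr R S τ ρ) (hZ : CommZ cs h X) (hS : ZClosed cs h S) (hn : ∀ a ∈ S, -a ∈ S)
    (hlam : lam ∈ Iv ρ.toAddMonoidHom) (hpos : ∀ a ∈ Sp S, 0 < lam a) (hfix : Fx X S τ ρ lam)

include F hZ hS hn hlam hpos hfix

theorem exists_dat (c : {c // Wall S ρ lam c}) : ∃ (f : (I → ℤ) →+ ℤ) (v : W) (k : Y),
    f ∈ Iv ρ.toAddMonoidHom ∧ (∀ a ∈ Sp S, 0 ≤ f a) ∧ c.1 = cl S f ∧ v ∈ WS cs h {a | a ∈ S ∧ f a = 0} ∧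
      k ∈ GS T X S ∧ Rp cs R.nsys v k ∧ τ k = k ∧
      (∀ a ∈ cl S f, rep cs h v a ≤ 0) ∧ v * v = 1 ∧
      ∀ y ∈ RGD.Sup X (clN S f), τ y = y → y ≠ 1 → ∃ u ∈ RGD.Sup X (cl S f), τ u = u ∧ ∃ t ∈ T, τ t = t ∧
        ∃ x ∈ RGD.Sup X (cl S f), τ x = x ∧ y = u * t * k * x := by
  obtain ⟨c, hc⟩ := c
  obtain ⟨-, f, hf, hf0, hcf, -⟩ := id hc
  have hc' : Wall S ρ lam (cl S f) := hcf ▸ hc
  have hN : {a | -a ∈ c} = clN S f := by
    ext a
    rw [hcf]
    constructor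
    · rintro ⟨h1, h2, h3⟩
      refine ⟨by simpa using hn _ h1, neg_nonneg.1 h2, ?_⟩
      rw [map_neg, neg_eq_zero] at h3
      exact h3
    · rintro ⟨h1, h2, h3⟩
      exact ⟨hn _ h1, neg_nonneg.2 h2, by rw [map_neg, h3, neg_zero]⟩
  have hfx := hfix c hc
  rw [hN] at hfx
  obtain ⟨v, hv, k, hk, h1, h2, h3, h4, h5⟩ := F.exists_refl hZ hS hn hlam hpos hf hc' hfx
  exact ⟨f, v, k, hf, hf0, hcf, hv, hk, h1, h2, h3, h4, h5⟩

/-- the functional of a wall -/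
noncomputable def fW (c : {c // Wall S ρ lam c}) : (I → ℤ) →+ ℤ :=
  (exists_dat F hZ hS hn hlam hpos hfix c).choose

/-- the reflection of a wall -/
noncomputable def vW (c : {c // Wall S ρ lam c}) : W :=
  (exists_dat F hZ hS hn hlam hpos hfix c).choose_spec.choose

/-- the representative of the reflection of a wall -/
noncomputable def kW (c : {c // Wall S ρ lam c}) : Y :=
  (exists_dat F hZ hS hn hlam hpos hfix c).choose_spec.choose_spec.choose

theorem specW (c : {c // Wall S ρ lam c}) : fW F hZ hS hn hlam hpos hfix c ∈ Iv ρ.toAddMonoidHom ∧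
    (∀ a ∈ Sp S, 0 ≤ fW F hZ hS hn hlam hpos hfix c a) ∧ c.1 = cl S (fW F hZ hS hn hlam hpos hfix c) ∧
    vW F hZ hS hn hlam hpos hfix c ∈ WS cs h {a | a ∈ S ∧ fW F hZ hS hn hlam hpos hfix c a = 0} ∧
      kW F hZ hS hn hlam hpos hfix c ∈ GS T X S ∧
      Rp cs R.nsys (vW F hZ hS hn hlam hpos hfix c) (kW F hZ hS hn hlam hpos hfix c) ∧
      τ (kW F hZ hS hn hlam hpos hfix c) = kW F hZ hS hn hlam hpos hfix c ∧
      (∀ a ∈ cl S (fW F hZ hS hn hlam hpos hfix c), rep cs h (vW F hZ hS hn hlam hpos hfix c) a ≤ 0) ∧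
      vW F hZ hS hn hlam hpos hfix c * vW F hZ hS hn hlam hpos hfix c = 1 ∧
      ∀ y ∈ RGD.Sup X (clN S (fW F hZ hS hn hlam hpos hfix c)), τ y = y → y ≠ 1 →
        ∃ u ∈ RGD.Sup X (cl S (fW F hZ hS hn hlam hpos hfix c)), τ u = u ∧ ∃ t ∈ T, τ t = t ∧
        ∃ x ∈ RGD.Sup X (cl S (fW F hZ hS hn hlam hpos hfix c)), τ x = x ∧
          y = u * t * kW F hZ hS hn hlam hpos hfix c * x :=
  (exists_dat F hZ hS hn hlam hpos hfix c).choose_spec.choose_spec.choose_spec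

/-- the relative root data without generation -/
noncomputable def pre : Pre R S (Gf T X S τ) {c // Wall S ρ lam c} where
  f := fW F hZ hS hn hlam hpos hfix
  k := kW F hZ hS hn hlam hpos hfix
  w := vW F hZ hS hn hlam hpos hfix
  root := hS.root
  neg := hn
  fpos := fun i a ha h0 => (specW F hZ hS hn hlam hpos hfix i).2.1 a ⟨ha, h0⟩
  rp := fun i => (specW F hZ hS hn hlam hpos hfix i).2.2.2.2.2.1
  kG := fun i => ⟨(specW F hZ hS hn hlam hpos hfix i).2.2.2.2.1, (specW F hZ hS hn hlam hpos hfix i).2.2.2.2.2.2.1⟩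
  wf := fun i x => WS_f (fun a ha => ha.2) (specW F hZ hS hn hlam hpos hfix i).2.2.2.1 x
  wS := fun i a ha => WS_mem hS hn (WS_mono (fun a ha => ha.1) (specW F hZ hS hn hlam hpos hfix i).2.2.2.1) a ha
  wneg := fun i => (specW F hZ hS hn hlam hpos hfix i).2.2.2.2.2.2.2.1
  sq := by
    intro i
    obtain ⟨-, -, -, -, -, h1, -, -, h2, -⟩ := specW F hZ hS hn hlam hpos hfix i
    have h3 := h1.mul h1
    rw [h2] at h3
    exact h3.mem_of_one
  injc := by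
    intro i j e
    refine Subtype.ext ?_
    rw [(specW F hZ hS hn hlam hpos hfix i).2.2.1, (specW F hZ hS hn hlam hpos hfix j).2.2.1, e]
  cases := by
    intro v g hg hgG hv i
    have h1 := sign hS hn hlam hpos i.2 (F.commute hg hgG.2) hv
    rwa [(specW F hZ hS hn hlam hpos hfix i).2.2.1] at h1
  dec := by
    intro i u hu huG
    obtain ⟨hI, h0, hc, -⟩ := specW F hZ hS hn hlam hpos hfix i
    set f := fW F hZ hS hn hlam hpos hfix i with hf
    obtain ⟨a, ha, x, hx, e⟩ := splitZ R hZ hS.nn htHom f (fun x hx => RGD.ht_pos (hS.root _ hx.1) hx.2) hu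
    have ha' : a ∈ RGD.Sup X (cp S f) := RGD.Sup_mono (S := {x | x ∈ {x | x ∈ S ∧ 0 ≤ x} ∧ 0 < f x})
      (S' := cp S f) (fun x hx => ⟨hx.1.1, hx.1.2, hx.2⟩) ha
    have hx' : x ∈ RGD.Sup X (cl S f) := RGD.Sup_mono (S := {x | x ∈ {x | x ∈ S ∧ 0 ≤ x} ∧ f x ≤ 0})
      (S' := cl S f) (fun x hx => ⟨hx.1.1, hx.1.2, le_antisymm hx.2 (h0 x hx.1)⟩) hx
    have hτa : τ a ∈ RGD.Sup X (cp S f) := by
      refine F.map_Sup (fun b hb => hS.root b hb.1) (fun b hb => ?_) ha'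
      exact ⟨F.mem b hb.1, F.pos b hb.1 hb.2.1, by rw [show f (ρ b) = f b from hI b]; exact hb.2.2⟩
    have hτx : τ x ∈ RGD.Sup X (cl S f) := by
      refine F.map_Sup (fun b hb => hS.root b hb.1) (fun b hb => ?_) hx'
      exact ⟨F.mem b hb.1, F.pos b hb.1 hb.2.1, by rw [show f (ρ b) = f b from hI b]; exact hb.2.2⟩
    have h1 : a⁻¹ * τ a = x * (τ x)⁻¹ := by
      have h2 : a * x = τ a * τ x := by
        rw [← e, ← map_mul, ← e]
        exact huG.2.symm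
      rw [inv_mul_eq_iff_eq_mul, ← mul_assoc, h2]; group
    have h2 : a⁻¹ * τ a = 1 := by
      refine sup_inf_sup' R f htHom ?_ ?_
      · exact RGD.Sup_mono (S := cp S f) (S' := {x | IsRoot cs h x ∧ 0 < f x})
          (fun b hb => ⟨hS.root b hb.1, hb.2.2⟩) (mul_mem (inv_mem ha') hτa)
      · rw [h1]
        exact RGD.Sup_mono (S := cl S f) (S' := {x | IsRoot cs h x ∧ f x ≤ 0 ∧ 0 < htHom x})
          (fun b hb => ⟨hS.root b hb.1, hb.2.2.le, RGD.ht_pos (hS.root b hb.1) hb.2.1⟩)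
          (mul_mem hx' (inv_mem hτx))
    have h3 : τ x = x := by
      rw [h2] at h1
      exact (mul_inv_eq_one.1 h1.symm).symm
    exact ⟨a, ha', x, hx', ⟨Sup_le_GS (S := S) (S' := cl S f) (fun b hb => hb.1) hx', h3⟩, e⟩
  rk := by
    intro i y hy hyG hy1
    obtain ⟨u, hu, hτu, t, ht, hτt, x, hx, hτx, e⟩ :=
      (specW F hZ hS hn hlam hpos hfix i).2.2.2.2.2.2.2.2.2 y hy hyG.2 hy1
    exact ⟨u, hu, ⟨Sup_le_GS (S' := cl S (fW F hZ hS hn hlam hpos hfix i)) (fun b hb => hb.1) hu, hτu⟩, t, ht,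
      ⟨T_le_GS ht, hτt⟩, x, hx, ⟨Sup_le_GS (S' := cl S (fW F hZ hS hn hlam hpos hfix i)) (fun b hb => hb.1) hx, hτx⟩, e⟩
  ne := by
    intro i
    obtain ⟨hI, h0, hc, hv, hkG, hk, hτk, hneg, -, -⟩ := specW F hZ hS hn hlam hpos hfix i
    obtain ⟨y, hy, hτy, hy1⟩ := hfix i.1 i.2
    set f := fW F hZ hS hn hlam hpos hfix i with hf
    set v := vW F hZ hS hn hlam hpos hfix i with hvdef
    set k := kW F hZ hS hn hlam hpos hfix i with hkdef
    rw [hc] at hy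
    have h1 : k * y * k⁻¹ ∈ RGD.Sup X (cl S f) := by
      refine conj_mem_Sup R hk (S := {a | -a ∈ cl S f}) (S' := cl S f)
        (fun a ha => by have := (hS.root _ ha.1).neg; rwa [neg_neg] at this) (fun a ha => ?_) hy
      have h2 : -a ∈ cl S f := ha
      have haS : a ∈ S := by have := hn _ h2.1; rwa [neg_neg] at this
      refine ⟨WS_mem hS hn (WS_mono (fun a ha => ha.1) hv) a haS, ?_, ?_⟩
      · have h3 := hneg _ h2
        rw [map_neg] at h3
        exact neg_nonpos.1 h3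
      · have h3 := h2.2.2
        rw [map_neg, neg_eq_zero] at h3
        rw [WS_f (fun a ha => ha.2) hv]; exact h3
    refine ⟨k * y * k⁻¹, h1, ⟨Sup_le_GS (S' := cl S f) (fun b hb => hb.1) h1, ?_⟩, ?_⟩
    · show τ (k * y * k⁻¹) = k * y * k⁻¹
      rw [map_mul, map_mul, map_inv, hτk, hτy]
    · intro h2
      rw [conj_eq_one_iff] at h2
      exact hy1 h2

/-- **The relative root data of the fixed points.** -/
noncomputable def rel : RelBN.Rel R S (Gf T X S τ) {c // Wall S ρ lam c} where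
  toPre := pre F hZ hS hn hlam hpos hfix
  gen := by
    set D := pre F hZ hS hn hlam hpos hfix with hD
    set Q : Subgroup Y := (RGD.Sup X (Sp S) ⊓ Gf T X S τ) ⊔ Subgroup.closure (Set.range D.k) ⊔ (T ⊓ Gf T X S τ) with hQ
    -- representatives
    have key : ∀ m : ℕ, ∀ v ∈ WS cs h S, (NgS cs h S v).ncard = m → ∀ k, Rp cs R.nsys v k → k ∈ Gf T X S τ → k ∈ Q := by
      intro m
      induction m using Nat.strong_induction_on with
      | _ m ih =>
      intro v hv hm k hk hkG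
      by_cases hall : ∀ a ∈ Sp S, 0 ≤ rep cs h v a
      · have hv1 := eq_one R hZ hS hn hv hall
        subst hv1
        exact Subgroup.mem_sup_right ⟨hk.mem_of_one, hkG⟩
      · push Not at hall
        obtain ⟨a, ha, hva⟩ := hall
        have hva' : rep cs h v a ≤ 0 := by
          rcases ((hS.root a ha.1).act v).pos_or_neg with h1 | h1
          · exact absurd h1 hva
          · exact h1
        have hvS := WS_mem hS hn hv
        have hcomm := F.commute hk hkG.2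
        have hP : (Sp S).Finite := hS.finite.subset fun a ha => ha.1
        let mu : (I → ℤ) →+ ℤ := lam.comp (rep cs h v).toAddMonoidHom
        have hmuv : ∀ x, mu x = lam (rep cs h v x) := fun x => rfl
        have hmuI : mu ∈ Iv ρ.toAddMonoidHom := by
          intro x
          show lam (rep cs h v (ρ x)) = lam (rep cs h v x)
          rw [hcomm]
          exact hlam (rep cs h v x)
        obtain ⟨f, hfI, hf0, ⟨a1, ha1, hfa1⟩, hfneg, hfpar⟩ := exists_expose (P := Sp S) hP hlam hmuI hpos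
          ⟨a, ha, by
            rw [hmuv]
            have := hpos _ ⟨hn _ (hvS a ha.1), neg_nonneg.2 hva'⟩
            rw [map_neg] at this
            linarith⟩
        have hw : Wall S ρ lam (cl S f) := ⟨⟨a1, ha1.1, ha1.2, hfa1⟩, f, hfI, hf0, rfl,
          fun a ha b hb g hg => hfpar a ⟨ha.1, ha.2.1⟩ b ⟨hb.1, hb.2.1⟩ ha.2.2 hb.2.2 g hg⟩
        have hcl : cl S f = cl S (D.f ⟨cl S f, hw⟩) := (specW F hZ hS hn hlam hpos hfix ⟨cl S f, hw⟩).2.2.1
        have hlt := D.ncard_lt ⟨cl S f, hw⟩ v (by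
          rw [← hcl]
          intro b hb
          have h1 := hfneg b ⟨hb.1, hb.2.1⟩ hb.2.2
          rw [hmuv] at h1
          exact nonpos_of_lam hS hpos (hvS b hb.1) h1.le)
        have hwS : D.w ⟨cl S f, hw⟩ ∈ WS cs h S :=
          WS_mono (fun a ha => ha.1) (specW F hZ hS hn hlam hpos hfix ⟨cl S f, hw⟩).2.2.2.1
        have h1 := ih _ (hm ▸ hlt) (v * D.w ⟨cl S f, hw⟩) (mul_mem hv hwS) rfl (k * D.k ⟨cl S f, hw⟩)
          (hk.mul (D.rp _)) (mul_mem hkG (D.kG _))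
        have h2 : D.k ⟨cl S f, hw⟩ ∈ Q :=
          Subgroup.mem_sup_left (Subgroup.mem_sup_right (Subgroup.subset_closure ⟨_, rfl⟩))
        have h3 : k = k * D.k ⟨cl S f, hw⟩ * (D.k ⟨cl S f, hw⟩)⁻¹ := by group
        rw [h3]
        exact mul_mem h1 (inv_mem h2)
    rintro g ⟨hg, hτ⟩
    obtain ⟨u, hu, hτu, v, hv, k, hk, hτk, hkG, x, hx, hτx, rfl⟩ :=
      F.fix_form hZ hn hS hn (fun a ha => ha) F.mem hg hτ
    have hUQ : ∀ {z : Y}, z ∈ RGD.Sup X (Sp S) → τ z = z → z ∈ Q := fun {z} hz hτz =>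
      Subgroup.mem_sup_left (Subgroup.mem_sup_left ⟨hz, Sup_le_GS (S' := Sp S) (fun a ha => ha.1) hz, hτz⟩)
    exact mul_mem (mul_mem (hUQ hu hτu) (key _ v hv rfl k hk ⟨hkG, hτk⟩))
      (hUQ (RGD.Sup_mono (S := NgS cs h S v) (S' := Sp S) (fun a ha => ha.1) hx) hτx)

/-- an element mapping `S⁺` to `S⁻` -/
theorem exists_opp : ∃ v ∈ Subgroup.closure (Set.range (rel F hZ hS hn hlam hpos hfix).w), ∃ g ∈ Gf T X S τ,
    Rp cs R.nsys v g ∧ ∀ a ∈ Sp S, rep cs h v a ≤ 0 := by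
  set D := rel F hZ hS hn hlam hpos hfix with hD
  have hrep : ∀ v ∈ Subgroup.closure (Set.range D.w), ∃ g ∈ Gf T X S τ, Rp cs R.nsys v g := by
    intro v hv
    induction hv using Subgroup.closure_induction with
    | mem x hx =>
      obtain ⟨i, rfl⟩ := hx
      exact ⟨D.k i, D.kG i, D.rp i⟩
    | one => exact ⟨1, one_mem _, rp_one⟩
    | mul x y _ _ h1 h2 =>
      obtain ⟨k, hk, hk'⟩ := h1
      obtain ⟨l, hl, hl'⟩ := h2
      exact ⟨k * l, mul_mem hk hl, hk'.mul hl'⟩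
    | inv x _ h1 =>
      obtain ⟨k, hk, hk'⟩ := h1
      exact ⟨k⁻¹, inv_mem hk, hk'.inv⟩
  obtain ⟨⟨v, hv⟩, hmax⟩ := Finite.exists_max
    (fun v : ↥(Subgroup.closure (Set.range D.w)) => (NgS cs h S v.1).ncard)
  obtain ⟨g, hgG, hg⟩ := hrep v hv
  refine ⟨v, hv, g, hgG, hg, ?_⟩
  have hvS := D.closure_w hv
  have hcomm := F.commute hg hgG.2
  by_contra hcon
  push Not at hcon
  obtain ⟨a, ha, hva⟩ := hcon
  have hva' : 0 ≤ rep cs h v a := by
    rcases ((hS.root a ha.1).act v).pos_or_neg with h1 | h1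
    · exact h1
    · exact absurd h1 hva
  have hP : (Sp S).Finite := hS.finite.subset fun a ha => ha.1
  let mu : (I → ℤ) →+ ℤ := -(lam.comp (rep cs h v).toAddMonoidHom)
  have hmuv : ∀ x, mu x = -lam (rep cs h v x) := fun x => rfl
  have hmuI : mu ∈ Iv ρ.toAddMonoidHom := by
    intro x
    show -lam (rep cs h v (ρ x)) = -lam (rep cs h v x)
    rw [hcomm]
    exact congrArg Neg.neg (hlam (rep cs h v x))
  obtain ⟨f, hfI, hf0, ⟨a1, ha1, hfa1⟩, hfneg, hfpar⟩ := exists_expose (P := Sp S) hP hlam hmuI hpos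
    ⟨a, ha, by
      rw [hmuv]
      have := hpos _ ⟨hvS a ha.1, hva'⟩
      linarith⟩
  have hw : Wall S ρ lam (cl S f) := ⟨⟨a1, ha1.1, ha1.2, hfa1⟩, f, hfI, hf0, rfl,
    fun a ha b hb g hg => hfpar a ⟨ha.1, ha.2.1⟩ b ⟨hb.1, hb.2.1⟩ ha.2.2 hb.2.2 g hg⟩
  have hcl : cl S f = cl S (D.f ⟨cl S f, hw⟩) := (specW F hZ hS hn hlam hpos hfix ⟨cl S f, hw⟩).2.2.1
  have hlt := D.lt_ncard ⟨cl S f, hw⟩ v (by
    rw [← hcl]
    intro b hb
    have h1 := hfneg b ⟨hb.1, hb.2.1⟩ hb.2.2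
    rw [hmuv] at h1
    exact nonneg_of_lam hS hn hpos (hvS b hb.1) (by linarith))
  have h2 := hmax ⟨v * D.w ⟨cl S f, hw⟩, mul_mem hv (Subgroup.subset_closure ⟨_, rfl⟩)⟩
  simp only at h2
  omega

end Data

end Frame

end Cfsg.Agent.BpExc.FixRel

end
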