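import Cfsg.Agent.BpExc.Pair

/-!
# The group `N⁺` of a toral element (S1332-EXC, helper3)

`Np H χ t` : the representatives commuting with `t` of the elements of `PP` (they preserve the positive roots of `Sx t`).
For a finite subgroup `Q ≤ Np H χ t`, `χ a t ^ l = 1`, `l ≠ p` prime: `|Q|` is prime to `p` (`coprime`) and `Q` is
solvable (`isSolvable`).
-/

set_option autoImplicit false
set_option linter.unusedSectionVars false

namespace Cfsg.Agent.BpExc.NpFin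

open CoxeterSystem Cfsg.Agent.ChevalleyStructure.CoxeterGeom Cfsg.Agent.Tits.Roots Cfsg.Agent.Tits.Core
  Cfsg.Agent.Tits.RootComb Cfsg.Agent.Tits.Exchange Cfsg.Agent.Nodes.Reps Cfsg.Agent.Nodes.BNOf
  Cfsg.Agent.Nodes.NormalForm Cfsg.Agent.KFacts.RgdField
  Cfsg.Agent.BpExc.TorCent Cfsg.Agent.BpExc.Tow Cfsg.Agent.BpExc.Fr Cfsg.Agent.BpExc.Pair

variable {I W Y : Type*} [Fintype I] [DecidableEq I] [Group W] [Group Y] {M : CoxeterMatrix I}
  {cs : CoxeterSystem M W} {A : I → I → ℤ} {h : IsCartan M A} {p : ℕ}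
  {J : Type*} [Preorder J] {T : J → Subgroup Y} {n : I → Y} {X : J → (I → ℤ) → Subgroup Y}
  (H : Tow cs h p T n X) {F : Type*} [Field F] {xx : (I → ℤ) → F → Y} {χ : (I → ℤ) → Y → F}

/-- the representatives of `PP` commuting with `t` -/
def Np [Finite W] (H : Tow cs h p T n X) (χ : (I → ℤ) → Y → F) (t : Y) : Subgroup Y where
  carrier := {k | ∃ w ∈ PP cs h χ t, Rp cs H.nsys w k ∧ k * t = t * k}
  one_mem' := ⟨1, one_mem _, rp_one, by rw [one_mul, mul_one]⟩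
  mul_mem' := by
    rintro a b ⟨v, hv, ha, hat⟩ ⟨w, hw, hb, hbt⟩
    refine ⟨v * w, mul_mem hv hw, ha.mul hb, ?_⟩
    rw [mul_assoc, hbt, ← mul_assoc, hat, mul_assoc]
  inv_mem' := by
    rintro a ⟨v, hv, ha, hat⟩
    refine ⟨v⁻¹, inv_mem hv, ha.inv, ?_⟩
    calc a⁻¹ * t = a⁻¹ * (t * a) * a⁻¹ := by group
      _ = a⁻¹ * (a * t) * a⁻¹ := by rw [hat]
      _ = t * a⁻¹ := by group

theorem mem_Np [Finite W] {t k : Y} :
    k ∈ Np H χ t ↔ ∃ w ∈ PP cs h χ t, Rp cs H.nsys w k ∧ k * t = t * k := Iff.rfl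

include H

/-- modulo the torus the group is an `l`-group -/
theorem exists_pow_mem [Finite W] (hA : ChAdd cs h (TL T) χ) {t : Y} (ht : t ∈ TL T) {l : ℕ} (hl : l.Prime)
    (htl : ∀ a, IsRoot cs h a → χ a t ^ l = 1) {k : Y} (hk : k ∈ Np H χ t) : ∃ m : ℕ, k ^ l ^ m ∈ TL T := by
  obtain ⟨w, hw, hk, -⟩ := hk
  obtain ⟨m, hm⟩ := isPGroup_PP hA ht hl htl ⟨w, hw⟩
  have hw1 : w ^ l ^ m = 1 := congrArg Subtype.val hm
  have h2 : ∀ j : ℕ, Rp cs H.nsys (w ^ j) (k ^ j) := by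
    intro j
    induction j with
    | zero => rw [pow_zero, pow_zero]; exact rp_one
    | succ j ih => rw [pow_succ, pow_succ]; exact ih.mul hk
  refine ⟨m, ?_⟩
  have h3 := h2 (l ^ m)
  rw [hw1] at h3
  exact h3.mem_of_one

/-- elements of the torus have no power of order `p` -/
theorem eq_one_of_pow {s : Y} (hs : s ∈ TL T) (hsp : s ^ p = 1) : s = 1 := by
  obtain ⟨j, hj⟩ := H.mem_TL.1 hs
  have h1 := (H.rgd j).tcop
  have h2 : orderOf (⟨s, hj⟩ : ↥(T j)) ∣ p := orderOf_dvd_of_pow_eq_one (Subtype.ext (by simpa using hsp))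
  have h3 : orderOf (⟨s, hj⟩ : ↥(T j)) ∣ Nat.card ↥(T j) := orderOf_dvd_natCard _
  have h4 := Nat.eq_one_of_dvd_coprimes h1 h3 h2
  rw [orderOf_eq_one_iff] at h4
  exact congrArg Subtype.val h4

/-- **The order is prime to `p`.** -/
theorem coprime [Finite W] [Fact p.Prime] (hA : ChAdd cs h (TL T) χ) {t : Y} (ht : t ∈ TL T) {l : ℕ} (hl : l.Prime)
    (hlp : l ≠ p) (htl : ∀ a, IsRoot cs h a → χ a t ^ l = 1) {Q : Subgroup Y} (hQ : Q ≤ Np H χ t) [Finite ↥Q] :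
    (Nat.card ↥Q).Coprime p := by
  have hp : p.Prime := Fact.out
  rw [Nat.coprime_comm, hp.coprime_iff_not_dvd]
  intro hdvd
  obtain ⟨x, hx⟩ := exists_prime_orderOf_dvd_card' (G := ↥Q) p hdvd
  obtain ⟨m, hm⟩ := exists_pow_mem H hA ht hl htl (hQ x.2)
  have h1 : ((x : Y) ^ l ^ m) ^ p = 1 := by
    rw [← pow_mul, mul_comm, pow_mul]
    have h2 : (x : Y) ^ p = 1 := by
      have h3 : x ^ p = 1 := by rw [← hx]; exact pow_orderOf_eq_one x
      simpa using congrArg Subtype.val h3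
    rw [h2, one_pow]
  have h2 := eq_one_of_pow H hm h1
  have h3 : x ^ l ^ m = 1 := Subtype.ext (by simpa using h2)
  have h4 : p ∣ l ^ m := by rw [← hx]; exact orderOf_dvd_of_pow_eq_one h3
  exact hlp ((Nat.prime_dvd_prime_iff_eq hp hl).1 (hp.dvd_of_dvd_pow h4)).symm

/-- **The group is solvable.** -/
theorem isSolvable [Finite W] (hA : ChAdd cs h (TL T) χ) (hTc : ∀ s ∈ TL T, ∀ t ∈ TL T, s * t = t * s) {t : Y}
    (ht : t ∈ TL T) {l : ℕ} (hl : l.Prime) (htl : ∀ a, IsRoot cs h a → χ a t ^ l = 1) {Q : Subgroup Y}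
    (hQ : Q ≤ Np H χ t) [Finite ↥Q] : Group.IsSolvable ↥Q := by
  have := Fact.mk hl
  have hnorm : ((TL T).subgroupOf Q).Normal := by
    refine ⟨fun s hs x => ?_⟩
    obtain ⟨w, -, hx, -⟩ := hQ x.2
    rw [Subgroup.mem_subgroupOf] at hs ⊢
    exact (Subgroup.mem_normalizer_iff.1 hx.mem_normalizer _).1 hs
  have h1 : Group.IsSolvable ↥((TL T).subgroupOf Q) :=
    Group.isSolvable_of_comm fun a b => Subtype.ext (Subtype.ext (hTc _ a.2 _ b.2))
  have h2 : IsPGroup l (↥Q ⧸ (TL T).subgroupOf Q) := by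
    intro q
    obtain ⟨x, rfl⟩ := QuotientGroup.mk_surjective q
    obtain ⟨m, hm⟩ := exists_pow_mem H hA ht hl htl (hQ x.2)
    refine ⟨m, ?_⟩
    rw [← QuotientGroup.mk_pow, QuotientGroup.eq_one_iff, Subgroup.mem_subgroupOf]
    simpa using hm
  have h3 : Group.IsNilpotent (↥Q ⧸ (TL T).subgroupOf Q) := h2.isNilpotent
  have h4 : Group.IsSolvable (↥Q ⧸ (TL T).subgroupOf Q) := inferInstance
  exact (Group.isSolvable_iff_subgroup_quotient _).2 ⟨h1, h4⟩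

end Cfsg.Agent.BpExc.NpFin
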