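import Cfsg.Agent.BpExc.Pair

/-!
# Fixed elements in orbits of root groups (S1332-EXC, helper3)

`τ` a frame automorphism (for `g`) fixing `t ∈ TL T`, preserving the positive roots of `Sx t`; `w ∈ W` preserving
`Sx t`, commuting with `g` on `Sx t`. If `w b < 0` for some `b > 0` in `Sx t`, then there is `1 ≠ u` fixed by `τ` in the
product of the root groups `X a`, `a ∈ Sx t`, `a > 0`, `w a < 0` (`exists_fixed`).

The orbit sums `f a = Σ ht (g ^ i a)` : among the roots `a ∈ Sx t`, `a > 0`, `w a < 0`, take one with `f a` maximal and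
then of maximal length. The root groups of its orbit commute, the other roots of the orbit are orthogonal to `a`.
-/

set_option autoImplicit false
set_option linter.unusedSectionVars false

namespace Cfsg.Agent.BpExc.Orbit

open CoxeterSystem Cfsg.Agent.ChevalleyStructure.CoxeterGeom Cfsg.Agent.Tits.Roots Cfsg.Agent.Tits.Core
  Cfsg.Agent.Tits.RootComb Cfsg.Agent.Tits.Exchange Cfsg.Agent.Nodes.Reps Cfsg.Agent.Nodes.BNOf
  Cfsg.Agent.Nodes.StabComb Cfsg.Agent.Nodes.Bruhat Cfsg.Agent.Nodes.OppDec Cfsg.Agent.Nodes.LeviDec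
  Cfsg.Agent.Nodes.NormalForm Cfsg.Agent.Nodes.SubComb Cfsg.Agent.Nodes.Coroot Cfsg.Agent.KFacts.RgdField
  Cfsg.Agent.BpExc.TorCent Cfsg.Agent.BpExc.Tow Cfsg.Agent.BpExc.Fr Cfsg.Agent.BpExc.Pair
open scoped commutatorElement

variable {I W Y : Type*} [Fintype I] [DecidableEq I] [Group W] [Group Y] {M : CoxeterMatrix I}
  {cs : CoxeterSystem M W} {A : I → I → ℤ} {h : IsCartan M A} {p : ℕ}

/-- the roots of a set made negative by `w` -/
def Psi (cs : CoxeterSystem M W) (h : IsCartan M A) (S : Set (I → ℤ)) (w : W) : Set (I → ℤ) :=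
  {a | a ∈ S ∧ 0 ≤ a ∧ rep cs h w a ≤ 0}

/-! ### combinatorics -/

/-- a frame permutation of the roots has finite order -/
theorem exists_period [Finite W] {g : (I → ℤ) ≃+ (I → ℤ)} (hg : ∀ a, IsRoot cs h (g a) ↔ IsRoot cs h a) :
    ∃ N : ℕ, 0 < N ∧ ∀ a, IsRoot cs h a → g^[N] a = a := by
  have hfin : Finite {x // IsRoot cs h x} := (RGD.finite_roots (cs := cs) (h := h)).to_subtype
  let G : Equiv.Perm {x // IsRoot cs h x} :=
    { toFun := fun a => ⟨g a.1, (hg a.1).2 a.2⟩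
      invFun := fun a => ⟨g.symm a.1, by rw [← hg, AddEquiv.apply_symm_apply]; exact a.2⟩
      left_inv := fun a => Subtype.ext (g.symm_apply_apply a.1)
      right_inv := fun a => Subtype.ext (g.apply_symm_apply a.1) }
  have hit : ∀ (n : ℕ) (a : {x // IsRoot cs h x}), ((G ^ n) a).1 = g^[n] a.1 := by
    intro n
    induction n with
    | zero => intro a; rfl
    | succ n ih =>
      intro a
      rw [pow_succ', Equiv.Perm.mul_apply, Function.iterate_succ_apply', ← ih]
      rfl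
  refine ⟨orderOf G, orderOf_pos G, fun a ha => ?_⟩
  have h1 := hit (orderOf G) ⟨a, ha⟩
  rw [pow_orderOf_eq_one] at h1
  exact h1.symm

/-- The set-up: `S` a set of roots, closed and symmetric, `g` preserving `S` and its positive part, `w` preserving `S`
and commuting with `g` on `S`. -/
structure Dat (cs : CoxeterSystem M W) (h : IsCartan M A) (S : Set (I → ℤ)) (g : (I → ℤ) ≃+ (I → ℤ)) (w : W) :
    Prop where
  root : ∀ a ∈ S, IsRoot cs h a
  groot : ∀ a, IsRoot cs h (g a) ↔ IsRoot cs h a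
  comb : ∀ a ∈ S, ∀ b ∈ S, ∀ i j : ℤ, IsRoot cs h (i • a + j • b) → i • a + j • b ∈ S
  gS : ∀ a ∈ S, g a ∈ S
  gpos : ∀ a ∈ S, 0 ≤ a → 0 ≤ g a
  wS : ∀ a ∈ S, rep cs h w a ∈ S
  comm : ∀ a ∈ S, rep cs h w (g a) = g (rep cs h w a)

variable {S : Set (I → ℤ)} {g : (I → ℤ) ≃+ (I → ℤ)} {w : W} (D : Dat cs h S g w)

include D

theorem Dat.neg {a : I → ℤ} (ha : a ∈ S) : -a ∈ S := by
  have h1 := D.comb a ha a ha (-1) 0
  rw [zero_smul, add_zero, neg_one_smul] at h1
  exact h1 (D.root a ha).neg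

theorem Dat.gneg {a : I → ℤ} (ha : a ∈ S) (h0 : a ≤ 0) : g a ≤ 0 := by
  have h1 := D.gpos _ (D.neg ha) (neg_nonneg.2 h0)
  rw [map_neg] at h1
  exact neg_nonneg.1 h1

theorem Dat.g_mem {a : I → ℤ} (ha : a ∈ Psi cs h S w) : g a ∈ Psi cs h S w := by
  refine ⟨D.gS a ha.1, D.gpos a ha.1 ha.2.1, ?_⟩
  rw [D.comm a ha.1]
  exact D.gneg (D.wS a ha.1) ha.2.2

theorem Dat.iter_mem {a : I → ℤ} (ha : a ∈ Psi cs h S w) (n : ℕ) : g^[n] a ∈ Psi cs h S w := by
  induction n with
  | zero => exact ha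
  | succ n ih => rw [Function.iterate_succ_apply']; exact D.g_mem ih

theorem Dat.iter_pos {a : I → ℤ} (ha : a ∈ S) (h0 : 0 ≤ a) (n : ℕ) : g^[n] a ∈ S ∧ 0 ≤ g^[n] a := by
  induction n with
  | zero => exact ⟨ha, h0⟩
  | succ n ih => rw [Function.iterate_succ_apply']; exact ⟨D.gS _ ih.1, D.gpos _ ih.1 ih.2⟩

/-- **The extremal root.** -/
theorem Dat.exists_root [Finite W] {b : I → ℤ} (hb : b ∈ Psi cs h S w) :
    ∃ a ∈ Psi cs h S w, (∃ N, 0 < N ∧ g^[N] a = a) ∧
      (∀ i j : ℕ, g^[i] a ≠ g^[j] a → ∀ m n : ℕ, 0 < m → 0 < n → ¬ IsRoot cs h (m • g^[i] a + n • g^[j] a)) ∧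
      ∀ i : ℕ, g^[i] a ≠ a → cpr cs h (g^[i] a) a = 0 := by
  have := Fintype.ofFinite W
  obtain ⟨N, hN, hper⟩ := exists_period D.groot
  obtain ⟨f, hf⟩ : ∃ f : (I → ℤ) → ℤ, ∀ a, f a = ∑ i ∈ Finset.range N, ht (g^[i] a) := ⟨_, fun _ => rfl⟩
  have hadd : ∀ x y, f (x + y) = f x + f y := by
    intro x y
    rw [hf, hf, hf, ← Finset.sum_add_distrib]
    refine Finset.sum_congr rfl fun i _ => ?_
    rw [iterate_map_add, RGD.ht_add]
  have hsmul : ∀ (c : ℤ) x, f (c • x) = c * f x := by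
    intro c x
    rw [hf, hf, Finset.mul_sum]
    refine Finset.sum_congr rfl fun i _ => ?_
    rw [iterate_map_zsmul, RGD.ht_smul]
  have hfg : ∀ a, IsRoot cs h a → f (g a) = f a := by
    intro a ha
    rw [hf, hf]
    have h1 := Finset.sum_range_succ (fun i => ht (g^[i] a)) N
    have h2 := Finset.sum_range_succ' (fun i => ht (g^[i] a)) N
    rw [h1, hper a ha, Function.iterate_zero, id] at h2
    have h3 := add_right_cancel h2
    rw [h3]
    refine Finset.sum_congr rfl fun i _ => ?_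
    rw [Function.iterate_succ_apply]
  have hfpos : ∀ a ∈ S, 0 ≤ a → 0 < f a := by
    intro a ha h0
    rw [hf]
    refine Finset.sum_pos (fun i _ => ?_) ⟨0, Finset.mem_range.2 hN⟩
    have h1 := D.iter_pos ha h0 i
    exact RGD.ht_pos (D.root _ h1.1) h1.2
  have hfin : (Psi cs h S w).Finite := (RGD.finite_roots (cs := cs) (h := h)).subset fun x hx => D.root x hx.1
  obtain ⟨a₀, ha₀, hmax₀⟩ := Set.exists_max_image (Psi cs h S w) f hfin ⟨b, hb⟩
  obtain ⟨a, ⟨ha, hfa⟩, hmax⟩ := Set.exists_max_image {x | x ∈ Psi cs h S w ∧ f x = f a₀}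
    (fun x => form cs h x x) (hfin.subset fun x hx => hx.1) ⟨a₀, ha₀, rfl⟩
  have hmaxf : ∀ x ∈ Psi cs h S w, f x ≤ f a := fun x hx => by rw [hfa]; exact hmax₀ x hx
  have har := D.root a ha.1
  have hapos := hfpos a ha.1 ha.2.1
  have hfi : ∀ i, f (g^[i] a) = f a := by
    intro i
    induction i with
    | zero => rfl
    | succ i ih => rw [Function.iterate_succ_apply', hfg _ (D.root _ (D.iter_mem ha i).1), ih]
  refine ⟨a, ha, ⟨N, hN, hper a har⟩, ?_, ?_⟩
  · intro i j _ m n hm hn hr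
    have hi := D.iter_mem ha i
    have hj := D.iter_mem ha j
    have e : m • g^[i] a + n • g^[j] a = (m : ℤ) • g^[i] a + (n : ℤ) • g^[j] a := by
      rw [natCast_zsmul, natCast_zsmul]
    rw [e] at hr
    have h1 : (m : ℤ) • g^[i] a + (n : ℤ) • g^[j] a ∈ Psi cs h S w := by
      refine ⟨D.comb _ hi.1 _ hj.1 _ _ hr, ?_, ?_⟩
      · exact add_nonneg (smul_nonneg (Int.natCast_nonneg m) hi.2.1) (smul_nonneg (Int.natCast_nonneg n) hj.2.1)
      · rw [map_add, map_smul, map_smul]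
        exact add_nonpos (smul_nonpos_of_nonneg_of_nonpos (Int.natCast_nonneg m) hi.2.2)
          (smul_nonpos_of_nonneg_of_nonpos (Int.natCast_nonneg n) hj.2.2)
    have h2 := hmaxf _ h1
    rw [hadd, hsmul, hsmul, hfi, hfi] at h2
    have hm' : (1 : ℤ) ≤ m := by exact_mod_cast hm
    have hn' : (1 : ℤ) ≤ n := by exact_mod_cast hn
    nlinarith
  · intro i hi
    obtain ⟨c, hc⟩ : ∃ c, c = g^[i] a := ⟨_, rfl⟩
    have hcP : c ∈ Psi cs h S w := by rw [hc]; exact D.iter_mem ha i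
    have hfc : f c = f a := by rw [hc, hfi]
    rw [← hc] at hi ⊢
    have hcr := D.root c hcP.1
    obtain ⟨e, he⟩ : ∃ e, e = cpr cs h c a := ⟨_, rfl⟩
    have hzr : IsRoot cs h (c - e • a) := by rw [he]; exact isRoot_refl cs h hcr har
    have hzS : c - e • a ∈ S := by
      have h1 := D.comb c hcP.1 a ha.1 1 (-e)
      rw [one_smul, neg_smul, ← sub_eq_add_neg] at h1
      exact h1 hzr
    have hfz : f (c - e • a) = (1 - e) * f a := by
      have h1 : c - e • a = c + (-e) • a := by rw [neg_smul, sub_eq_add_neg]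
      rw [h1, hadd, hsmul, hfc]; ring
    rw [← he]
    rcases lt_trichotomy e 0 with hneg | h0 | hpos
    · exfalso
      have h1 : c - e • a ∈ Psi cs h S w := by
        have e1 : c - e • a = c + (-e) • a := by rw [neg_smul, sub_eq_add_neg]
        refine ⟨hzS, ?_, ?_⟩
        · rw [e1]
          exact add_nonneg hcP.2.1 (smul_nonneg (by omega) ha.2.1)
        · rw [e1, map_add, map_smul]
          exact add_nonpos hcP.2.2 (smul_nonpos_of_nonneg_of_nonpos (by omega) ha.2.2)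
      have h2 := hmaxf _ h1
      rw [hfz] at h2
      nlinarith
    · exact h0
    · exfalso
      -- `e = 1`
      have h1 := hmax c ⟨hcP, hfc.trans hfa⟩
      have h1 : form cs h c c ≤ form cs h a a := h1
      have h2 : 0 < form cs h (c - a) (c - a) := form_pos cs h (sub_ne_zero.2 hi)
      have h3 := two_form_cpr cs h c har
      rw [← he] at h3
      rw [form_sub_left, form_sub_right, form_sub_right, form_comm cs h a c] at h2
      have h4 : 0 < form cs h a a := form_pos cs h har.ne_zero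
      have h5 : e = 1 := by
        have h6 : e < 2 := by
          by_contra hcon
          have h7 : 2 ≤ e := not_lt.1 hcon
          nlinarith
        omega
      rw [h5, sub_self, zero_mul] at hfz
      rw [h5] at hzr hzS
      rcases hzr.pos_or_neg with h6 | h6
      · have := hfpos _ hzS h6
        omega
      · have h7 := hfpos _ (D.neg hzS) (neg_nonneg.2 h6)
        have h8 := hsmul (-1) (c - (1 : ℤ) • a)
        rw [neg_one_smul] at h8
        rw [h8] at h7
        omega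

omit D

/-! ### the fixed element -/

section Lim

variable {J : Type*} [Preorder J] {T : J → Subgroup Y} {n : I → Y} {X : J → (I → ℤ) → Subgroup Y}
  (H : Tow cs h p T n X)

include H

/-- positive and negative root groups intersect trivially, in the union -/
theorem eq_one_of_pos_neg [Finite W] {y : Y} (h1 : y ∈ RGD.Sup (XL X) (RGD.Pos cs h))
    (h2 : y ∈ RGD.Sup (XL X) (Neg cs h)) : y = 1 := by
  obtain ⟨i, hi⟩ := H.mem_Sup.1 h1
  obtain ⟨j, hj⟩ := H.mem_Sup.1 h2
  obtain ⟨c, hc1, hc2⟩ := H.dir i j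
  have h3 : y ∈ RGD.Sup (X c) (RGD.Pos cs h) ⊓ UN cs h (X c) := ⟨H.mono_Sup _ hc1 hi, H.mono_Sup _ hc2 hj⟩
  rwa [U_inf_UN (H.rgd c), Subgroup.mem_bot] at h3

/-- **A nontrivial fixed element of the root groups made negative by `w`.** -/
theorem exists_fixed [Finite W] {τ : MulAut Y} (F : Fr cs h (TL T) (XL X) τ g) (D : Dat cs h S g w)
    (hZ : ∀ a b, IsRoot cs h a → IsRoot cs h b → a ≠ b → a ≠ -b → ∀ x ∈ XL X a, ∀ y ∈ XL X b,
      ⁅x, y⁆ ∈ RGD.Sup (XL X) {z | IsRoot cs h z ∧ ∃ i j : ℕ, 0 < i ∧ 0 < j ∧ z = i • a + j • b})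
    (hX : ∀ a ∈ S, ∃ y ∈ XL X a, y ≠ 1 ∧ ∀ m : ℕ, g^[m] a = a → (τ ^ m) y = y)
    {b : I → ℤ} (hb : b ∈ Psi cs h S w) : ∃ u ∈ RGD.Sup (XL X) (Psi cs h S w), u ≠ 1 ∧ τ u = u := by
  obtain ⟨a, ha, ⟨N, hN, hNa⟩, hsum, hcpr⟩ := D.exists_root hb
  have har := D.root a ha.1
  -- the least period
  classical
  have hex : ∃ m, 0 < m ∧ g^[m] a = a := ⟨N, hN, hNa⟩
  obtain ⟨hm0, hma⟩ := Nat.find_spec hex
  have hmin : ∀ i, 0 < i → i < Nat.find hex → g^[i] a ≠ a := fun i h0 hi hcon => Nat.find_min hex hi ⟨h0, hcon⟩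
  obtain ⟨m, hm⟩ : ∃ m, Nat.find hex = m + 1 := ⟨Nat.find hex - 1, by omega⟩
  rw [hm] at hma hmin
  obtain ⟨y, hy, hy1, hyf⟩ := hX a ha.1
  have hyi : ∀ i : ℕ, (τ ^ i) y ∈ XL X (g^[i] a) := by
    intro i
    induction i with
    | zero => exact hy
    | succ i ih =>
      rw [pow_succ', MulAut.mul_apply, Function.iterate_succ_apply', F.map _ (D.root _ (D.iter_mem ha i).1)]
      exact ih
  have hcomm : ∀ i, g^[i] a ≠ a → Commute y ((τ ^ i) y) := by
    intro i hi
    have hir := D.root _ (D.iter_mem ha i).1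
    have h1 := hZ a (g^[i] a) har hir (Ne.symm hi) (fun hcon => by
      apply hir.not_pos_neg (D.iter_mem ha i).2.1
      rw [hcon] at ha
      exact neg_nonneg.1 ha.2.1) y hy _ (hyi i)
    have h2 : {z | IsRoot cs h z ∧ ∃ m n : ℕ, 0 < m ∧ 0 < n ∧ z = m • a + n • g^[i] a} = ∅ := by
      rw [Set.eq_empty_iff_forall_notMem]
      rintro z ⟨hz, m', n', hm', hn', rfl⟩
      exact hsum 0 i (by simpa using Ne.symm hi) m' n' hm' hn' hz
    rw [h2, Sup_empty, Subgroup.mem_bot, commutatorElement_eq_one_iff_commute] at h1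
    exact h1
  -- the product
  obtain ⟨r, hr⟩ : ∃ r, r = ((List.range m).map fun i => (τ ^ (i + 1)) y).prod := ⟨_, rfl⟩
  have hyr : Commute y r := by
    rw [hr]
    refine Commute.list_prod_right _ _ fun x hx => ?_
    obtain ⟨i, hi, rfl⟩ := List.mem_map.1 hx
    exact hcomm (i + 1) (hmin (i + 1) (by omega) (by have := List.mem_range.1 hi; omega))
  have hτr : τ r = r * y * (τ y)⁻¹ ∨ True := Or.inr trivial
  have hu : τ (y * r) = y * r := by
    have h1 : y * r = ((List.range (m + 1)).map fun i => (τ ^ i) y).prod := by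
      rw [List.range_succ_eq_map, List.map_cons, List.prod_cons, List.map_map, hr]
      rfl
    have h2 : τ (y * r) = ((List.range (m + 1)).map fun i => (τ ^ (i + 1)) y).prod := by
      rw [h1, map_list_prod, List.map_map]
      congr 1
      refine List.map_congr_left fun i _ => ?_
      rw [Function.comp_apply, pow_succ', MulAut.mul_apply]
    rw [h2, List.range_succ, List.map_append, List.prod_append, ← hr, List.map_singleton, List.prod_singleton,
      hyf (m + 1) hma, hyr.eq]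
  refine ⟨y * r, ?_, ?_, hu⟩
  · refine mul_mem (RGD.le_Sup ha hy) ?_
    rw [hr]
    refine Subgroup.list_prod_mem _ fun x hx => ?_
    obtain ⟨i, hi, rfl⟩ := List.mem_map.1 hx
    exact RGD.le_Sup (D.iter_mem ha (i + 1)) (hyi (i + 1))
  · intro hcon
    apply hy1
    -- the reflection in `a`
    obtain ⟨v, i₀, hv⟩ := id har
    obtain ⟨k, -, hk⟩ := H.exists_rp (rfl' cs v i₀)
    have hrep : ∀ x, rep cs h (rfl' cs v i₀) x = x - cpr cs h x a • a := by
      intro x
      rw [rep_rfl'_eq, ← hv]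
    have h1 : k * y * k⁻¹ ∈ RGD.Sup (XL X) (Neg cs h) := by
      have h2 : k * y * k⁻¹ ∈ XL X (rep cs h (rfl' cs v i₀) a) := by
        rw [← H.conj_rp hk har]
        exact conj_mem_cj.2 hy
      rw [hrep, cpr_self cs h har] at h2
      have h3 : a - (2 : ℤ) • a = -a := by rw [two_smul]; abel
      rw [h3] at h2
      exact RGD.le_Sup (S := Neg cs h) ⟨har.neg, neg_nonpos.2 ha.2.1⟩ h2
    have h2 : k * r * k⁻¹ ∈ RGD.Sup (XL X) (RGD.Pos cs h) := by
      rw [hr, ← MulAut.conj_apply, map_list_prod, List.map_map]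
      refine Subgroup.list_prod_mem _ fun x hx => ?_
      obtain ⟨i, hi, rfl⟩ := List.mem_map.1 hx
      have hi' := hmin (i + 1) (by omega) (by have := List.mem_range.1 hi; omega)
      have hP := D.iter_mem ha (i + 1)
      have h3 : k * (τ ^ (i + 1)) y * k⁻¹ ∈ XL X (rep cs h (rfl' cs v i₀) (g^[i + 1] a)) := by
        rw [← H.conj_rp hk (D.root _ hP.1)]
        exact conj_mem_cj.2 (hyi (i + 1))
      rw [hrep, hcpr (i + 1) hi', zero_smul, sub_zero] at h3
      exact RGD.le_Sup (S := RGD.Pos cs h) ⟨D.root _ hP.1, hP.2.1⟩ h3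
    have h3 : k * y * k⁻¹ = 1 := by
      refine eq_one_of_pos_neg H ?_ h1
      have h4 : k * y * k⁻¹ = (k * r * k⁻¹)⁻¹ := by
        rw [eq_inv_iff_mul_eq_one]
        calc k * y * k⁻¹ * (k * r * k⁻¹) = k * (y * r) * k⁻¹ := by group
          _ = 1 := by rw [hcon, mul_one, mul_inv_cancel]
      rw [h4]
      exact inv_mem h2
    rwa [conj_eq_one_iff] at h3

end Lim

end Cfsg.Agent.BpExc.Orbit
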