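import Cfsg.Agent.BpExc.RowsUntw
import Cfsg.Agent.BpExc.AsmN
import Cfsg.Agent.BpExc.EmbSplit
import Cfsg.Agent.BpTwo.Two
import Cfsg.Agent.BpExc.NChev

/-!
# S1332-EXC: the untwisted rows from the second end (helper79)

* `good_of_ns` : `K` with a split (B,N)-pair of characteristic `r`, `x : MulAut K` of prime order `p ≠ r`, `NS r (C_K(x))`
  implies `Good p (C_K(x))`;
* `bps_of_fam` and the rows `row_g2`, `row_f4`, `row_e6`, `row_e7`, `row_e8`.
-/

set_option autoImplicit false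
set_option linter.unusedSectionVars false

namespace Cfsg.Agent.BpExc.RowsN

open CoxeterSystem Subgroup Cfsg Cfsg.Lie Cfsg.Lie.ChevalleyDatum
open Cfsg.Agent.ChevalleyStructure Cfsg.Agent.ChevalleyStructure.Elts Cfsg.Agent.ChevalleyStructure.CoxeterGeom
  Cfsg.Agent.ChevalleyStructure.CoxeterGeomTypes Cfsg.Agent.ChevalleyStructure.NPerm
open Cfsg.Agent.Nodes.RGDChev Cfsg.Agent.KFacts.RgdChevCoord Cfsg.Agent.GpExc.Field
open Cfsg.Agent.BpTab Cfsg.Agent.BpExc Cfsg.Agent.BpExc.TowChev Cfsg.Agent.BpExc.FamUntw Cfsg.Agent.BpExc.FamInst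
  Cfsg.Agent.BpExc.LangFr Cfsg.Agent.BpExc.FamField Cfsg.Agent.BpExc.AsmN Cfsg.Agent.BpExc.RowsUntw

universe u

theorem good_of_ns {K : Type u} [Group K] [Finite K] {r p : ℕ} [Fact r.Prime] [Fact p.Prime] (hpr : p ≠ r)
    (hI : BpTwo.Inp.{u}) (h : FixBN.HasSplit r K) {x : MulAut K} (hx : orderOf x = p)
    (hNS : NS r ↥(fixedSubgroup x)) : Good p ↥(fixedSubgroup x) := by
  obtain ⟨P, U, -, h⟩ := h
  obtain ⟨Pa, d, h1, h2, h3⟩ := BpTwo.exists_gates hpr h x (by rw [← hx]; exact pow_orderOf_eq_one x)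
  obtain ⟨a, ha⟩ := hNS
  exact BpGate.good_of_isSolvable h1 h2 h3 (fun J hJ => BpTwo.sch_component hI.sch hI.kn J hJ) a ha

/-! ### torus elements -/

theorem pow_mem_of_split {Y : Type*} [Group Y] {N : Subgroup Y} {a t : Y} (ha : a ∈ N)
    (hn : ∀ b ∈ N, t * b * t⁻¹ ∈ N) {m : ℕ} (hm : t ^ m = 1) : (a * t) ^ m ∈ N := by
  have hn' : ∀ j : ℕ, ∀ b ∈ N, t ^ j * b * (t ^ j)⁻¹ ∈ N := by
    intro j
    induction j with
    | zero => intro b hb; simpa using hb
    | succ j ih =>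
      intro b hb
      have h1 := hn _ (ih b hb)
      have e : t ^ (j + 1) * b * (t ^ (j + 1))⁻¹ = t * (t ^ j * b * (t ^ j)⁻¹) * t⁻¹ := by
        rw [pow_succ']; group
      rwa [e]
  have key : ∀ j : ℕ, ∃ b ∈ N, (a * t) ^ j = b * t ^ j := by
    intro j
    induction j with
    | zero => exact ⟨1, one_mem _, by simp⟩
    | succ j ih =>
      obtain ⟨b, hb, e⟩ := ih
      refine ⟨b * (t ^ j * a * (t ^ j)⁻¹), mul_mem hb (hn' j a ha), ?_⟩
      rw [pow_succ, e, pow_succ]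
      group
  obtain ⟨b, hb, e⟩ := key m
  rw [e, hm, mul_one]
  exact hb

theorem eq_one_of_pow {D : ChevalleyDatum} (hD : InList D) {k : Type u} [Field k] {r : ℕ} [Fact r.Prime] [CharP k r]
    {t : GL D.Idx k} (ht : t ∈ D.diagonalSubgroup k) {j : ℕ} (h : t ^ r ^ j = 1) : t = 1 := by
  obtain ⟨χ, hχ⟩ := HMatDiagAll.mem_torus.1 (HMatDiagAll.diagonalSubgroup_le_torus hD ht)
  apply Units.ext
  have h1 := congrArg (fun g : GL D.Idx k => (g : Matrix D.Idx D.Idx k)) h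
  simp only [Units.val_pow_eq_pow_val, hχ, Matrix.diagonal_pow, Units.val_one] at h1
  rw [hχ, Units.val_one, ← Matrix.diagonal_one]
  congr 1
  funext i
  rw [← Matrix.diagonal_one] at h1
  have h2 := congrFun (Matrix.diagonal_injective h1) i
  rw [Pi.pow_apply] at h2
  apply sub_eq_zero.1
  refine pow_eq_zero_iff (pow_pos (Fact.out : r.Prime).pos j).ne' |>.1 ?_
  rw [sub_pow_char_pow, h2, one_pow, sub_self]

theorem exists_coprime {D : ChevalleyDatum} (hD : InList D) {k : Type u} [Field k] {r : ℕ} [Fact r.Prime] [CharP k r]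
    {t : ↥(D.group k)} (ht : t ∈ TT D k) (hf : IsOfFinOrder t) : ∃ m : ℕ, m.Coprime r ∧ t ^ m = 1 := by
  have hr : r.Prime := Fact.out
  obtain ⟨j, m, hm, e⟩ := Nat.exists_eq_pow_mul_and_not_dvd (orderOf_pos_iff.2 hf).ne' r hr.ne_one
  refine ⟨m, ((Nat.Prime.coprime_iff_not_dvd hr).2 hm).symm, ?_⟩
  have h1 : (t ^ m) ^ r ^ j = 1 := by
    rw [← pow_mul, mul_comm, ← e]
    exact pow_orderOf_eq_one t
  apply Subtype.ext
  refine eq_one_of_pow hD (t := ((t ^ m : ↥(D.group k)) : GL D.Idx k)) ?_ (j := j) (congrArg Subtype.val h1)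
  exact Subgroup.mem_subgroupOf.1 (pow_mem ht m)

section

variable {D : ChevalleyDatum} {l : ℕ} {M : CoxeterMatrix (Fin l)} (hp : IsType D l M)

/-- The geometry over the algebraic closure of `ZMod r`, second form. -/
def EndNR (hp : IsType D l M) (r p : ℕ) [Fact r.Prime] : Prop :=
  AsmN.EndN hp M.toCoxeterSystem (k := AlgebraicClosure (ZMod r)) r p

/-- **The second end** (helper83, `NChev.endN`). -/
theorem endNR {r p : ℕ} [Fact r.Prime] [hpp : Fact p.Prime] (hpr : p ≠ r) : EndNR hp r p := by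
  intro t τ g e ht htp he hτ F hτt hpos hfin
  have : Finite ↥(Pair.fixC τ t) := Finite.of_injective (Subgroup.inclusion (Asm.fixC_le τ t))
    (Subgroup.inclusion_injective _)
  exact NChev.endN hp M.toCoxeterSystem (locFin_of_isAlgebraic r _) hpp.out hpr ht htp he hτ F hτt hpos

include hp in
theorem bps_of_fam {r p : ℕ} [Fact r.Prime] [Fact p.Prime] (hpr : p ≠ r)
    (hI : BpTwo.Inp.{0}) {F : Type} [Field F] [Fintype F] [CharP F r] (hs : FixBN.HasSplit r ↥(D.group F))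
    (hfam : ∀ (f : F →+* AlgebraicClosure (ZMod r)) {n : ℕ} (_ : Nat.card F = r ^ n)
      {σ : MulAut ↥(D.group (AlgebraicClosure (ZMod r)))}
      (_ : ∀ g, (σ g : GL D.Idx (AlgebraicClosure (ZMod r))) =
        LangThm.frob r n (g : GL D.Idx (AlgebraicClosure (ZMod r)))), Fam hp M.toCoxeterSystem f r p σ) :
    BpS p ↥(D.group F) := by
  obtain ⟨f⟩ := exists_emb r F
  obtain ⟨n, hn0, hn⟩ := exists_card (F := F) r
  have hk : LocFin (AlgebraicClosure (ZMod r)) := locFin_of_isAlgebraic r _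
  have hfin := finite_phi (D := D) (k := AlgebraicClosure (ZMod r)) (r := r) hn0
  have hT : ∀ y : ↥(D.group (AlgebraicClosure (ZMod r))), y ^ p = 1 →
      ∃ z : ↥(D.group (AlgebraicClosure (ZMod r))), z * y * z⁻¹ ∈ TT D (AlgebraicClosure (ZMod r)) := by
    intro y hy
    obtain ⟨z, hz⟩ := TorAll.exists_toral' hp r Fact.out hpr hy
    exact ⟨z⁻¹, by rwa [inv_inv]⟩
  have hfr := fun g => phi_frob (D := D) (k := AlgebraicClosure (ZMod r)) r n g
  have hq : Fintype.card F = r ^ n := by rw [← hn, Nat.card_eq_fintype_card]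
  let φ : AlgebraicClosure (ZMod r) →+* AlgebraicClosure (ZMod r) :=
    ((frb (AlgebraicClosure (ZMod r)) r n : AlgebraicClosure (ZMod r) ≃+* AlgebraicClosure (ZMod r)) :
      AlgebraicClosure (ZMod r) →+* AlgebraicClosure (ZMod r))
  have hφ : ∀ t, φ t = t ^ Fintype.card F := by
    intro t
    rw [hq]
    exact frb_apply _ r n t
  have hσφ : ∀ y : ↥(D.group (AlgebraicClosure (ZMod r))),
      ((phi D (AlgebraicClosure (ZMod r)) r n y : ↥(D.group (AlgebraicClosure (ZMod r)))) :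
        GL D.Idx (AlgebraicClosure (ZMod r))) = glMap D φ (y : GL D.Idx (AlgebraicClosure (ZMod r))) := by
    intro y
    apply Units.ext
    rfl
  have hfix : ∀ a, phi D (AlgebraicClosure (ZMod r)) r n (emb hp.inList f a) = emb hp.inList f a :=
    fun a => Emb.emb_fix hp.inList hφ hσφ a
  intro x hx
  refine good_of_ns hpr hI hs hx ?_
  refine ns hp M.toCoxeterSystem hk (endNR hp hpr) hT hn0 (phi_isFrob r n)
    (phi_fr hp M.toCoxeterSystem r hk n) (emb hp.inList f) (emb_injective hp.inList f) hfix (fun y hy => ?_)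
    (hfam f hn hfr) hx
  have hy' : glMap D φ (y : GL D.Idx (AlgebraicClosure (ZMod r))) = y := by rw [← hσφ, hy]
  obtain ⟨a, ha, t, ht, e⟩ := EmbSplit.untw_split hp.inList (Emb.fix_iff_range hφ) y.2 hy'
  have hta : t ∈ D.group (AlgebraicClosure (ZMod r)) := by
    have h1 : t = ((emb hp.inList f ⟨a, ha⟩ : ↥(D.group (AlgebraicClosure (ZMod r)))) :
        GL D.Idx (AlgebraicClosure (ZMod r)))⁻¹ * y := by
      rw [coe_emb]
      exact eq_inv_mul_of_mul_eq e.symm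
    rw [h1]
    exact mul_mem (inv_mem (SetLike.coe_mem _)) y.2
  have e' : y = emb hp.inList f ⟨a, ha⟩ * ⟨t, hta⟩ := Subtype.ext e
  have hσt : phi D (AlgebraicClosure (ZMod r)) r n ⟨t, hta⟩ = ⟨t, hta⟩ := by
    have h1 := hy
    rw [e', map_mul, hfix] at h1
    exact mul_left_cancel h1
  have hft : IsOfFinOrder (⟨t, hta⟩ : ↥(D.group (AlgebraicClosure (ZMod r)))) := by
    have h1 : IsOfFinOrder (⟨⟨t, hta⟩, hσt⟩ : ↥(fixedSubgroup (phi D (AlgebraicClosure (ZMod r)) r n))) :=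
      isOfFinOrder_of_finite _
    exact (fixedSubgroup (phi D (AlgebraicClosure (ZMod r)) r n)).subtype.isOfFinOrder h1
  obtain ⟨m, hm, hm1⟩ := exists_coprime hp.inList (Subgroup.mem_subgroupOf.2 ht) hft
  refine ⟨m, hm, ?_⟩
  rw [e']
  exact pow_mem_of_split (N := (emb hp.inList f).range) ⟨_, rfl⟩ (fun b hb => Emb.conj_mem_range hp.inList (f := f) hφ hσφ hσt hb) hm1

end

/-! ### the rows -/

theorem hasSplit {D : ChevalleyDatum} {l : ℕ} {M : CoxeterMatrix (Fin l)} (hp : IsType D l M) (F : Type) [Field F]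
    [Finite F] {r : ℕ} [hr : Fact r.Prime] [CharP F r] (hs : IsSimpleGroup ↥(D.group F)) :
    FixBN.HasSplit r ↥(D.group F) :=
  Omega.ML.LieRow.hasSplit_of_rgd hr.out (hasRGD_group hp F r)

variable {p : ℕ} [Fact p.Prime]

theorem row_g2 (hp2 : p ≠ 2) (hI : BpTwo.Inp.{0}) :
    Row.{u} p fun X _ => Lie.IsoChevG2 X := by
  rintro X _ _ ⟨F, _, _, h3, ⟨e⟩⟩
  obtain ⟨r, hr, hF⟩ := exists_char F
  by_cases hpr : p = r
  · subst hpr
    exact BpLieP.Untw.bpS_of_exceptional p hp2 (X := X) ⟨F, inferInstance, inferInstance, hF, Or.inl ⟨h3, ⟨e⟩⟩⟩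
  · have : Fact r.Prime := ⟨hr⟩
    refine BpS.congr (bps_of_fam g2T hpr hI (F := F) (hasSplit g2T F
      (S1055.result (RowsUntw.exists_ne h3)).1) fun f n hn σ hσ => ?_) e.symm
    exact fam_g2 (locFin_of_isAlgebraic r _) f r g2T _ (RowsUntw.exists_ne h3) Fact.out hp2 hn hσ

theorem row_f4 (hp2 : p ≠ 2) (hI : BpTwo.Inp.{0}) :
    Row.{u} p fun X _ => Lie.IsoF4 X := by
  rintro X _ _ ⟨F, _, _, ⟨e⟩⟩
  obtain ⟨r, hr, hF⟩ := exists_char F
  by_cases hpr : p = r
  · subst hpr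
    exact BpLieP.Untw.bpS_of_exceptional p hp2 (X := X) ⟨F, inferInstance, inferInstance, hF, Or.inr (Or.inl ⟨e⟩)⟩
  · have : Fact r.Prime := ⟨hr⟩
    refine BpS.congr (bps_of_fam f4T hpr hI (F := F) (hasSplit f4T F
      (S1054.result chevF4 (by simp)).1) fun f n hn σ hσ => ?_) e.symm
    exact fam_f4 (locFin_of_isAlgebraic r _) f r f4T _ Fact.out hp2 hn hσ

theorem row_e6 (hp2 : p ≠ 2) (hI : BpTwo.Inp.{0}) :
    Row.{u} p fun X _ => Lie.IsoChevE6 X := by
  rintro X _ _ ⟨F, _, _, ⟨e⟩⟩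
  obtain ⟨r, hr, hF⟩ := exists_char F
  by_cases hpr : p = r
  · subst hpr
    exact BpLieP.Untw.bpS_of_exceptional p hp2 (X := X)
      ⟨F, inferInstance, inferInstance, hF, Or.inr (Or.inr (Or.inl ⟨e⟩))⟩
  · have : Fact r.Prime := ⟨hr⟩
    refine BpS.congr (bps_of_fam e6T hpr hI (F := F) (hasSplit e6T F
      (S1054.result chevE6 (by simp)).1) fun f n hn σ hσ => ?_) e.symm
    exact fam_e6 (locFin_of_isAlgebraic r _) f r e6T _ Fact.out hp2 hn hσ

theorem row_e7 (hp2 : p ≠ 2) (hI : BpTwo.Inp.{0}) :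
    Row.{u} p fun X _ => Lie.IsoE7 X := by
  rintro X _ _ ⟨F, _, _, ⟨e⟩⟩
  obtain ⟨r, hr, hF⟩ := exists_char F
  by_cases hpr : p = r
  · subst hpr
    exact BpLieP.Untw.bpS_of_exceptional p hp2 (X := X)
      ⟨F, inferInstance, inferInstance, hF, Or.inr (Or.inr (Or.inr (Or.inl ⟨e⟩)))⟩
  · have : Fact r.Prime := ⟨hr⟩
    refine BpS.congr (bps_of_fam e7T hpr hI (F := F) (hasSplit e7T F
      (S1054.result chevE7 (by simp)).1) fun f n hn σ hσ => ?_) e.symm
    exact fam_e7 (locFin_of_isAlgebraic r _) f r e7T _ Fact.out hp2 hn hσ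

theorem row_e8 (hp2 : p ≠ 2) (hI : BpTwo.Inp.{0}) :
    Row.{u} p fun X _ => Lie.IsoE8 X := by
  rintro X _ _ ⟨F, _, _, ⟨e⟩⟩
  obtain ⟨r, hr, hF⟩ := exists_char F
  by_cases hpr : p = r
  · subst hpr
    exact BpLieP.Untw.bpS_of_exceptional p hp2 (X := X)
      ⟨F, inferInstance, inferInstance, hF, Or.inr (Or.inr (Or.inr (Or.inr ⟨e⟩)))⟩
  · have : Fact r.Prime := ⟨hr⟩
    refine BpS.congr (bps_of_fam e8T hpr hI (F := F) (hasSplit e8T F
      (S1054.result chevE8 (by simp)).1) fun f n hn σ hσ => ?_) e.symm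
    exact fam_e8 (locFin_of_isAlgebraic r _) f r e8T _ Fact.out hp2 hn hσ

end Cfsg.Agent.BpExc.RowsN
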