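import Cfsg.Agent.BpExc.Tow
import Cfsg.Agent.BpExc.TorRgd
import Cfsg.Agent.Nodes.RGDLib

/-!
# Torality over the algebraic closure (S1332-EXC (T), helper88)

`H : Tow cs h p T n X` (directed union of finite root group data in `Y`), `f` an automorphism of `Y` fixing all the
`T j`, `X j a` (a power of a Frobenius), `x ∈ Y` (or an automorphism of `Y`) of prime order `l ≠ p` fixed by `f`; Lang:
`x = z⁻¹ f ^ l ^ e (z)`.

* `exists_conj_mem_TL` : `x` is conjugate into `TL T`.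
-/

set_option autoImplicit false
set_option linter.unusedSectionVars false
set_option linter.dupNamespace false

namespace Cfsg.Agent.BpExc.TorTow

open CoxeterSystem Cfsg.Agent.ChevalleyStructure.CoxeterGeom Cfsg.Agent.Tits.Roots Cfsg.Agent.Tits.Core
  Cfsg.Agent.Tits.RootComb Cfsg.Agent.Tits.Exchange Cfsg.Agent.Nodes.Reps Cfsg.Agent.Nodes.BNOf
  Cfsg.Agent.Nodes.StabComb Cfsg.Agent.Nodes.Bruhat Cfsg.Agent.Nodes.OppDec Cfsg.Agent.Nodes.LeviDec
  Cfsg.Agent.Nodes.NormalForm Cfsg.Agent.Nodes.RGDLib Cfsg.Agent.KFacts.RgdAut Cfsg.Agent.KFacts.RgdDiag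
  Cfsg.Agent.CpAut.RgdFix Cfsg.Agent.BpExc.Tow Cfsg.Agent.BpExc.TorRgd
open scoped commutatorElement

/-! ### restriction of automorphisms -/

section Res

variable {Y : Type*} [Group Y]

/-- the restriction of an automorphism to a fixed subgroup -/
def res (f : MulAut Y) (K : Subgroup Y) (hf : Fix f K) : MulAut ↥K where
  toFun y := ⟨f y, (hf y).2 y.2⟩
  invFun y := ⟨f⁻¹ y, (hf.inv y).2 y.2⟩
  left_inv y := Subtype.ext (MulAut.inv_apply_self Y f y)
  right_inv y := Subtype.ext (MulAut.apply_inv_self Y f y)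
  map_mul' a b := Subtype.ext (map_mul f (a : Y) b)

theorem res_apply (f : MulAut Y) (K : Subgroup Y) (hf : Fix f K) (y : K) : ((res f K hf) y : Y) = f y := rfl

theorem res_pow (f : MulAut Y) (K : Subgroup Y) (hf : Fix f K) (k : ℕ) (y : K) :
    (((res f K hf) ^ k) y : Y) = (f ^ k) y := by
  induction k generalizing y with
  | zero => rw [pow_zero, pow_zero]; rfl
  | succ k ih =>
    rw [pow_succ, pow_succ, MulAut.mul_apply, ih, res_apply, MulAut.mul_apply]

theorem fix_pow {f : MulAut Y} {K : Subgroup Y} (hf : Fix f K) (k : ℕ) : Fix (f ^ k) K := by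
  induction k with
  | zero => intro y; rw [pow_zero]; rfl
  | succ k ih => rw [pow_succ]; exact ih.mul hf

end Res

variable {I W Y : Type*} [Fintype I] [DecidableEq I] [Group W] [Group Y] {M : CoxeterMatrix I}
  {cs : CoxeterSystem M W} {A : I → I → ℤ} {h : IsCartan M A} {p : ℕ}

section Lvl

variable {T : Subgroup Y} {n : I → Y} {X : (I → ℤ) → Subgroup Y} (R : RGD cs h p T n X)

include R

/-- the root group data of the group `GG` itself -/
theorem rgd_GG : RGD cs h p (T.subgroupOf (GG cs h T X)) (fun i => ⟨n i, by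
    have := n_mem_LJ R (J := Set.univ) (i := i) (Set.mem_univ i)
    rwa [LJ_univ] at this⟩) (fun x => (X x).subgroupOf (GG cs h T X)) :=
  rgd_restrict R (GG cs h T X) (fun _ hx => X_le_GG hx) _

omit R in
theorem GG_GG : GG cs h (T.subgroupOf (GG cs h T X)) (fun x => (X x).subgroupOf (GG cs h T X)) = ⊤ := by
  have h1 : RGD.Sup (fun x => (X x).subgroupOf (GG cs h T X)) {x | IsRoot cs h x} =
      (RGD.Sup X {x | IsRoot cs h x}).subgroupOf (GG cs h T X) := by
    unfold RGD.Sup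
    rw [iSup_subgroupOf]
    rintro ⟨x, hx⟩
    exact X_le_GG hx
  have h2 : GG cs h (T.subgroupOf (GG cs h T X)) (fun x => (X x).subgroupOf (GG cs h T X)) =
      (T ⊔ RGD.Sup X {x | IsRoot cs h x}).subgroupOf (GG cs h T X) := by
    show T.subgroupOf (GG cs h T X) ⊔ RGD.Sup (fun x => (X x).subgroupOf (GG cs h T X)) {x | IsRoot cs h x} = _
    rw [h1]
    apply Subgroup.map_injective (GG cs h T X).subtype_injective
    have h3 : RGD.Sup X {x | IsRoot cs h x} ≤ GG cs h T X := le_sup_right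
    have h4 : T ⊔ RGD.Sup X {x | IsRoot cs h x} ≤ GG cs h T X := le_rfl
    rw [Subgroup.map_sup, Subgroup.subgroupOf_map_subtype, Subgroup.subgroupOf_map_subtype,
      Subgroup.subgroupOf_map_subtype, inf_eq_left.2 T_le_GG, inf_eq_left.2 h3, inf_eq_left.2 h4]
  rw [h2]
  exact Subgroup.subgroupOf_self _

end Lvl

theorem fix_GG {T : Subgroup Y} {X : (I → ℤ) → Subgroup Y} {f : MulAut Y} (hT : Fix f T)
    (hX : ∀ a, IsRoot cs h a → Fix f (X a)) : Fix f (GG cs h T X) := by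
  have key : ∀ g : MulAut Y, Fix g T → (∀ a, IsRoot cs h a → Fix g (X a)) → ∀ y, y ∈ GG cs h T X → g y ∈ GG cs h T X := by
    intro g hT hX y hy
    have h1 : GG cs h T X ≤ (GG cs h T X).comap g.toMonoidHom := by
      refine sup_le ?_ (RGD.Sup_le ?_)
      · intro t ht
        exact T_le_GG ((hT t).2 ht)
      · intro a ha u hu
        exact X_le_GG ha ((hX a ha u).2 hu)
    exact h1 hy
  intro y
  refine ⟨fun hy => ?_, key f hT hX y⟩
  have h1 := key f⁻¹ hT.inv (fun a ha => (hX a ha).inv) _ hy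
  rwa [MulAut.inv_apply_self] at h1

section Lim

variable {J : Type*} [Preorder J] {T : J → Subgroup Y} {n : I → Y} {X : J → (I → ℤ) → Subgroup Y}
  (H : Tow cs h p T n X)

include H

/-- **Torality over the union.** -/
theorem exists_conj_mem_TL [Finite W] [Fact p.Prime] (hY : GG cs h (TL T) (XL X) = ⊤)
    (hfin : ∀ j, Finite ↥(GG cs h (T j) (X j))) {l : ℕ} (hl : l.Prime) (hlp : l ≠ p) {x z : Y} {f : MulAut Y} {e : ℕ}
    (hx : x ^ l = 1) (hfx : f x = x) (hz : z⁻¹ * (f ^ l ^ e) z = x) (hfT : ∀ j, Fix f (T j))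
    (hfX : ∀ j a, IsRoot cs h a → Fix f (X j a))
    (hk : ∀ j, ∃ j', j ≤ j' ∧ ∀ a, IsRoot cs h a →
      Nat.card ↥(X j' a ⊓ fixedSubgroup (f ^ l ^ e)) ≡ 1 [MOD l ^ (e + 1)])
    (hW : ¬ l ^ (e + 1) ∣ Nat.card W) : ∃ g : Y, g * x * g⁻¹ ∈ TL T := by
  obtain ⟨j1, h1⟩ := H.mem_GG.1 (show x ∈ GG cs h (TL T) (XL X) by rw [hY]; exact Subgroup.mem_top x)
  obtain ⟨j2, h2⟩ := H.mem_GG.1 (show z ∈ GG cs h (TL T) (XL X) by rw [hY]; exact Subgroup.mem_top z)
  obtain ⟨j3, h31, h32⟩ := H.dir j1 j2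
  obtain ⟨j, hj, hkj⟩ := hk j3
  have hx' : x ∈ GG cs h (T j) (X j) := H.mono_GG (h31.trans hj) h1
  have hz' : z ∈ GG cs h (T j) (X j) := H.mono_GG (h32.trans hj) h2
  have R := rgd_GG (H.rgd j)
  have := hfin j
  have hfG : Fix f (GG cs h (T j) (X j)) := fix_GG (hfT j) (hfX j)
  obtain ⟨g, hg⟩ := exists_conj_mem_T R GG_GG hl hlp (x := ⟨x, hx'⟩) (z := ⟨z, hz'⟩) (f := res f _ hfG) (j := e)
    (Subtype.ext hx) (Subtype.ext hfx) (Subtype.ext (by
      show z⁻¹ * (((res f _ hfG) ^ l ^ e) ⟨z, hz'⟩ : ↥(GG cs h (T j) (X j))) = x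
      rw [res_pow]; exact hz))
    { tor := fun y => by
        rw [Subgroup.mem_subgroupOf, Subgroup.mem_subgroupOf, res_pow]
        exact fix_pow (hfT j) _ _
      pos := fun i y => by
        rw [Subgroup.mem_subgroupOf, Subgroup.mem_subgroupOf, res_pow]
        exact fix_pow (hfX j _ (isRoot_sr cs h i)) _ _
      neg := fun i y => by
        rw [Subgroup.mem_subgroupOf, Subgroup.mem_subgroupOf, res_pow]
        exact fix_pow (hfX j _ (isRoot_sr cs h i).neg) _ _ } (fun a ha => by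
      rw [← show Nat.card ↥(X j a ⊓ fixedSubgroup (f ^ l ^ e)) =
        Nat.card ↥(XF (fun x => (X j x).subgroupOf (GG cs h (T j) (X j))) ((res f _ hfG) ^ l ^ e) a) from ?_]
      · exact hkj a ha
      · refine Nat.card_congr ⟨fun y => ⟨⟨y.1, X_le_GG ha y.2.1⟩, y.2.1, Subtype.ext ?_⟩, fun y => ⟨y.1.1, y.2.1, ?_⟩,
          fun _ => rfl, fun _ => rfl⟩
        · rw [res_pow]; exact y.2.2
        · have h4 := congrArg Subtype.val y.2.2
          rw [res_pow] at h4
          exact h4) hW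
  exact ⟨g, le_TL j hg⟩

end Lim

end Cfsg.Agent.BpExc.TorTow
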